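import Cfsg.Agent.Lib.TwoGen46.OrthCore
import Cfsg.Agent.Classical.SLGen

/-!
Hyperbolic pairs in a quadratic space: the Levi homomorphism from `GL_r`, flips of a pair, tori, and
the monomial element with a long cycle.
-/

set_option autoImplicit false

namespace CfsgLib.TwoGen46

open QuadraticMap CfsgLib.Orth Matrix

variable {ι : Type} [Fintype ι] [DecidableEq ι] {F : Type*} [Field F]

/-- `r` orthogonal hyperbolic pairs. -/
structure Hyp (Q : QuadraticForm F (ι → F)) (r : ℕ) where
  x : Fin r → ι → F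
  y : Fin r → ι → F
  Qx : ∀ i, Q (x i) = 0
  Qy : ∀ i, Q (y i) = 0
  pxx : ∀ i j, polar Q (x i) (x j) = 0
  pyy : ∀ i j, polar Q (y i) (y j) = 0
  pxy : ∀ i j, polar Q (x i) (y j) = if i = j then 1 else 0

namespace Hyp

variable {Q : QuadraticForm F (ι → F)} {r : ℕ} (H : Hyp Q r)

theorem pyx (i j : Fin r) : polar Q (H.y i) (H.x j) = if i = j then 1 else 0 := by
  rw [polar_comm, H.pxy]; simp [eq_comm]

/-- The combinations of the first vectors. -/
def X : (Fin r → F) →ₗ[F] (ι → F) := Fintype.linearCombination F H.x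

/-- The combinations of the second vectors. -/
def Y : (Fin r → F) →ₗ[F] (ι → F) := Fintype.linearCombination F H.y

/-- The coordinates along the first vectors. -/
def cx : (ι → F) →ₗ[F] (Fin r → F) := LinearMap.pi fun k => Q.polarBilin (H.y k)

/-- The coordinates along the second vectors. -/
def cy : (ι → F) →ₗ[F] (Fin r → F) := LinearMap.pi fun k => Q.polarBilin (H.x k)

theorem X_apply (c : Fin r → F) : H.X c = ∑ k, c k • H.x k := Fintype.linearCombination_apply F H.x c

theorem Y_apply (c : Fin r → F) : H.Y c = ∑ k, c k • H.y k := Fintype.linearCombination_apply F H.y c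

theorem X_single (j : Fin r) (a : F) : H.X (Pi.single j a) = a • H.x j := by
  rw [H.X_apply, Finset.sum_eq_single j] <;> simp +contextual

theorem Y_single (j : Fin r) (a : F) : H.Y (Pi.single j a) = a • H.y j := by
  rw [H.Y_apply, Finset.sum_eq_single j] <;> simp +contextual

theorem cx_apply (v : ι → F) (k : Fin r) : H.cx v k = polar Q (H.y k) v := rfl

theorem cy_apply (v : ι → F) (k : Fin r) : H.cy v k = polar Q (H.x k) v := rfl

theorem cx_X (c : Fin r → F) : H.cx (H.X c) = c := by
  funext k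
  rw [H.cx_apply, H.X_apply, ← polarBilin_apply_apply Q, map_sum, Finset.sum_eq_single k]
  · simp [polar_smul_right, H.pyx]
  · intro b _ hb; simp [polar_smul_right, H.pyx, Ne.symm hb]
  · simp

theorem cy_Y (c : Fin r → F) : H.cy (H.Y c) = c := by
  funext k
  rw [H.cy_apply, H.Y_apply, ← polarBilin_apply_apply Q, map_sum, Finset.sum_eq_single k]
  · simp [polar_smul_right, H.pxy]
  · intro b _ hb; simp [polar_smul_right, H.pxy, Ne.symm hb]
  · simp

theorem cy_X (c : Fin r → F) : H.cy (H.X c) = 0 := by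
  funext k
  simp [H.cy_apply, H.X_apply, ← polarBilin_apply_apply Q, -polarBilin_apply_apply, map_sum]
  simp [polarBilin_apply_apply, H.pxx]

theorem cx_Y (c : Fin r → F) : H.cx (H.Y c) = 0 := by
  funext k
  simp [H.cx_apply, H.Y_apply, ← polarBilin_apply_apply Q, -polarBilin_apply_apply, map_sum]
  simp [polarBilin_apply_apply, H.pyy]

theorem cx_x (j : Fin r) : H.cx (H.x j) = Pi.single j 1 := by
  have := H.cx_X (Pi.single j 1)
  rwa [H.X_single, one_smul] at this

theorem cy_x (j : Fin r) : H.cy (H.x j) = 0 := by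
  have := H.cy_X (Pi.single j 1)
  rwa [H.X_single, one_smul] at this

theorem cx_y (j : Fin r) : H.cx (H.y j) = 0 := by
  have := H.cx_Y (Pi.single j 1)
  rwa [H.Y_single, one_smul] at this

theorem cy_y (j : Fin r) : H.cy (H.y j) = Pi.single j 1 := by
  have := H.cy_Y (Pi.single j 1)
  rwa [H.Y_single, one_smul] at this

/-- Orthogonal to all the pairs. -/
def Rest (v : ι → F) : Prop := H.cx v = 0 ∧ H.cy v = 0

theorem rest_iff (v : ι → F) :
    H.Rest v ↔ ∀ i, polar Q v (H.x i) = 0 ∧ polar Q v (H.y i) = 0 := by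
  simp only [Rest, funext_iff, cx_apply, cy_apply, Pi.zero_apply, polar_comm _ v]
  exact ⟨fun h i => ⟨h.2 i, h.1 i⟩, fun h => ⟨fun i => (h i).2, fun i => (h i).1⟩⟩

theorem rest_sub (v : ι → F) : H.Rest (v - H.X (H.cx v) - H.Y (H.cy v)) := by
  constructor
  · rw [map_sub, map_sub, cx_X, cx_Y, sub_self, sub_zero]
  · rw [map_sub, map_sub, cy_X, cy_Y, sub_zero, sub_self]

theorem ext_hyp {g h : O Q} (hx : ∀ i, app g (H.x i) = app h (H.x i))
    (hy : ∀ i, app g (H.y i) = app h (H.y i)) (hr : ∀ v, H.Rest v → app g v = app h v) : g = h := by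
  refine ext_app fun v => ?_
  have e := hr _ (H.rest_sub v)
  have eX : app g (H.X (H.cx v)) = app h (H.X (H.cx v)) := by
    simp only [H.X_apply, map_sum, map_smul, hx]
  have eY : app g (H.Y (H.cy v)) = app h (H.Y (H.cy v)) := by
    simp only [H.Y_apply, map_sum, map_smul, hy]
  rw [map_sub, map_sub, map_sub, map_sub, eX, eY] at e
  exact sub_left_injective (sub_left_injective e)

theorem polar_X (v : ι → F) (c : Fin r → F) : polar Q v (H.X c) = c ⬝ᵥ H.cy v := by
  rw [H.X_apply, ← polarBilin_apply_apply Q, map_sum]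
  refine Finset.sum_congr rfl fun k _ => ?_
  rw [polarBilin_apply_apply, polar_smul_right, smul_eq_mul, H.cy_apply, polar_comm]

theorem polar_Y (v : ι → F) (c : Fin r → F) : polar Q v (H.Y c) = c ⬝ᵥ H.cx v := by
  rw [H.Y_apply, ← polarBilin_apply_apply Q, map_sum]
  refine Finset.sum_congr rfl fun k _ => ?_
  rw [polarBilin_apply_apply, polar_smul_right, smul_eq_mul, H.cx_apply, polar_comm]

theorem Q_comb (u : Fin r → ι → F) (hQ' : ∀ i, Q (u i) = 0) (hp : ∀ i j, polar Q (u i) (u j) = 0)
    (c : Fin r → F) : Q (∑ k, c k • u k) = 0 := by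
  classical
  have : ∀ s : Finset (Fin r), Q (∑ k ∈ s, c k • u k) = 0 := by
    intro s
    induction s using Finset.induction_on with
    | empty => simp
    | insert a s ha ih =>
      rw [Finset.sum_insert ha, QuadraticMap.map_add ⇑Q, QuadraticMap.map_smul, hQ', ih,
        ← polarBilin_apply_apply Q, map_sum]
      simp [polar_smul_right, polar_smul_left, hp]
  exact this _

/-- The Levi map of a matrix. -/
noncomputable def levMap (A : GL (Fin r) F) : (ι → F) →ₗ[F] (ι → F) :=
  LinearMap.id + H.X ∘ₗ (Matrix.mulVecLin ((A : Matrix (Fin r) (Fin r) F) - 1)) ∘ₗ H.cx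
    + H.Y ∘ₗ (Matrix.mulVecLin (((A⁻¹ : GL (Fin r) F) : Matrix (Fin r) (Fin r) F)ᵀ - 1)) ∘ₗ H.cy

theorem levMap_apply (A : GL (Fin r) F) (v : ι → F) : H.levMap A v =
    v + H.X (((A : Matrix (Fin r) (Fin r) F) - 1) *ᵥ H.cx v)
      + H.Y ((((A⁻¹ : GL (Fin r) F) : Matrix (Fin r) (Fin r) F)ᵀ - 1) *ᵥ H.cy v) := rfl

theorem cx_levMap (A : GL (Fin r) F) (v : ι → F) :
    H.cx (H.levMap A v) = (A : Matrix (Fin r) (Fin r) F) *ᵥ H.cx v := by
  rw [H.levMap_apply, map_add, map_add, H.cx_X, H.cx_Y, sub_mulVec, one_mulVec]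
  abel

theorem cy_levMap (A : GL (Fin r) F) (v : ι → F) :
    H.cy (H.levMap A v) = ((A⁻¹ : GL (Fin r) F) : Matrix (Fin r) (Fin r) F)ᵀ *ᵥ H.cy v := by
  rw [H.levMap_apply, map_add, map_add, H.cy_X, H.cy_Y, sub_mulVec, one_mulVec]
  abel

theorem levMap_mul (A B : GL (Fin r) F) (v : ι → F) :
    H.levMap (A * B) v = H.levMap A (H.levMap B v) := by
  rw [H.levMap_apply A, H.cx_levMap, H.cy_levMap, H.levMap_apply, H.levMap_apply B]
  simp only [_root_.mul_inv_rev, Units.val_mul, Matrix.transpose_mul, sub_mulVec, one_mulVec,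
    ← mulVec_mulVec, map_sub]
  abel

theorem levMap_one (v : ι → F) : H.levMap 1 v = v := by
  simp [H.levMap_apply]

theorem Q_levMap (A : GL (Fin r) F) (v : ι → F) : Q (H.levMap A v) = Q v := by
  rw [H.levMap_apply]
  set c := ((A : Matrix (Fin r) (Fin r) F) - 1) *ᵥ H.cx v with hc
  set d := (((A⁻¹ : GL (Fin r) F) : Matrix (Fin r) (Fin r) F)ᵀ - 1) *ᵥ H.cy v with hd
  have e : (c + H.cx v) ⬝ᵥ (d + H.cy v) = H.cx v ⬝ᵥ H.cy v := by
    rw [hc, hd, sub_mulVec, sub_mulVec, one_mulVec, one_mulVec, sub_add_cancel, sub_add_cancel,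
      dotProduct_mulVec, vecMul_transpose, mulVec_mulVec, Units.inv_mul, one_mulVec]
  rw [QuadraticMap.map_add ⇑Q, QuadraticMap.map_add ⇑Q, H.X_apply c, H.Y_apply d,
    Q_comb H.x H.Qx H.pxx, Q_comb H.y H.Qy H.pyy, ← H.X_apply c, ← H.Y_apply d, polar_add_left,
    H.polar_X, H.polar_Y, H.polar_Y, H.cx_X]
  rw [add_dotProduct, dotProduct_add, dotProduct_add, dotProduct_comm (H.cx v) d,
    dotProduct_comm c d] at e
  linear_combination e

/-- The Levi homomorphism. -/
noncomputable def lev : GL (Fin r) F →* O Q where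
  toFun A := mkO (H.levMap A) (H.levMap A⁻¹)
    (LinearMap.ext fun v => by rw [LinearMap.comp_apply, ← H.levMap_mul, mul_inv_cancel, H.levMap_one]; rfl)
    (LinearMap.ext fun v => by rw [LinearMap.comp_apply, ← H.levMap_mul, inv_mul_cancel, H.levMap_one]; rfl)
    (H.Q_levMap A)
  map_one' := ext_app fun v => by rw [app_mkO, H.levMap_one, app_one]
  map_mul' A B := ext_app fun v => by rw [app_mkO, app_mul, app_mkO, app_mkO, H.levMap_mul]

theorem app_lev (A : GL (Fin r) F) (v : ι → F) : app (H.lev A) v = H.levMap A v   := by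
  simp only [lev, MonoidHom.coe_mk, OneHom.coe_mk, app_mkO]

theorem lev_x (A : GL (Fin r) F) (j : Fin r) :
    app (H.lev A) (H.x j) = H.X ((A : Matrix (Fin r) (Fin r) F) *ᵥ Pi.single j 1) := by
  rw [H.app_lev, H.levMap_apply, H.cx_x, H.cy_x, mulVec_zero, map_zero, add_zero, sub_mulVec,
    one_mulVec, map_sub, H.X_single, one_smul]
  abel

theorem lev_y (A : GL (Fin r) F) (j : Fin r) {u : Fin r → F}
    (h : (A : Matrix (Fin r) (Fin r) F)ᵀ *ᵥ u = Pi.single j 1) :
    app (H.lev A) (H.y j) = H.Y u := by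
  rw [H.app_lev, H.levMap_apply, H.cx_y, H.cy_y, mulVec_zero, map_zero, add_zero, sub_mulVec,
    one_mulVec, ← h, mulVec_mulVec, ← Matrix.transpose_mul, Units.mul_inv, Matrix.transpose_one,
    one_mulVec, map_sub]
  rw [h, H.Y_single, one_smul]
  abel

theorem lev_rest (A : GL (Fin r) F) {v : ι → F} (h : H.Rest v) : app (H.lev A) v = v := by
  rw [H.app_lev, H.levMap_apply, h.1, h.2]
  simp

/-- Diagonal elements of `GL_r`. -/
def diagGL (d : Fin r → Fˣ) : GL (Fin r) F where
  val := Matrix.diagonal fun i => (d i : F)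
  inv := Matrix.diagonal fun i => ((d i)⁻¹ : Fˣ)
  val_inv := by rw [Matrix.diagonal_mul_diagonal]; simp
  inv_val := by rw [Matrix.diagonal_mul_diagonal]; simp

theorem tor_x (d : Fin r → Fˣ) (j : Fin r) :
    app (H.lev (diagGL d)) (H.x j) = (d j : F) • H.x j := by
  rw [H.lev_x]
  show H.X (Matrix.diagonal _ *ᵥ _) = _
  rw [Matrix.diagonal_mulVec_single, mul_one, H.X_single]

theorem tor_y (d : Fin r → Fˣ) (j : Fin r) :
    app (H.lev (diagGL d)) (H.y j) = ((d j)⁻¹ : Fˣ) • H.y j := by
  rw [H.lev_y _ j (u := Pi.single j (((d j)⁻¹ : Fˣ) : F))]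
  · rw [H.Y_single]; rfl
  · show (Matrix.diagonal _)ᵀ *ᵥ _ = _
    rw [Matrix.diagonal_transpose, Matrix.diagonal_mulVec_single, ← Units.val_mul, mul_inv_cancel,
      Units.val_one]

theorem diagGL_mul (d e : Fin r → Fˣ) : diagGL d * diagGL e = diagGL (d * e) :=
  Units.ext (by
    show Matrix.diagonal _ * Matrix.diagonal _ = Matrix.diagonal _
    rw [Matrix.diagonal_mul_diagonal]
    simp)

theorem diagGL_pow (d : Fin r → Fˣ) : ∀ k : ℕ, diagGL d ^ k = diagGL (d ^ k)
  | 0 => Units.ext (by
      show (1 : Matrix (Fin r) (Fin r) F) = Matrix.diagonal _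
      simp)
  | k + 1 => by rw [pow_succ, diagGL_pow d k, diagGL_mul, pow_succ]

/-- The flip of a pair. -/
noncomputable def flip (k : Fin r) (c : F) : O Q := refl Q (H.x k - c • H.y k)

theorem Q_flipVec (k : Fin r) (c : F) : Q (H.x k - c • H.y k) = -c := by
  rw [sub_eq_add_neg, ← neg_smul, QuadraticMap.map_add ⇑Q, QuadraticMap.map_smul, polar_smul_right,
    H.Qx, H.Qy, H.pxy, if_pos rfl]
  simp

theorem flip_x (k : Fin r) {c : F} (hc : c ≠ 0) : app (H.flip k c) (H.x k) = c • H.y k := by
  rw [flip, app_refl, H.Q_flipVec, polar_sub_right, polar_smul_right, H.pxx, H.pxy, if_pos rfl]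
  simp only [smul_eq_mul, mul_one, zero_sub]
  rw [inv_mul_cancel₀ (neg_ne_zero.2 hc), one_smul, sub_sub_cancel]

theorem flip_y (k : Fin r) {c : F} (hc : c ≠ 0) : app (H.flip k c) (H.y k) = c⁻¹ • H.x k := by
  rw [flip, app_refl, H.Q_flipVec, polar_sub_right, polar_smul_right, H.pyy, H.pyx, if_pos rfl]
  simp only [smul_eq_mul, mul_zero, sub_zero, mul_one]
  match_scalars <;> field_simp <;> ring

theorem flip_fix (k : Fin r) (c : F) {v : ι → F} (h1 : polar Q v (H.x k) = 0)
    (h2 : polar Q v (H.y k) = 0) : app (H.flip k c) v = v :=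
  app_refl_of_ortho (by rw [polar_sub_right, polar_smul_right, h1, h2, smul_zero, sub_zero])

theorem flip_flip (k : Fin r) {c c' : Fˣ} :
    H.flip k c * H.flip k c' = H.lev (diagGL (Pi.mulSingle k (c' / c))) := by
  refine H.ext_hyp (fun i => ?_) (fun i => ?_) (fun v hv => ?_)
  · rw [app_mul, H.tor_x]
    by_cases hi : i = k
    · subst hi
      rw [H.flip_x _ c'.ne_zero, map_smul, H.flip_y _ c.ne_zero, smul_smul, Pi.mulSingle_eq_same,
        Units.val_div_eq_div_val, div_eq_mul_inv]
    · rw [H.flip_fix k c' (H.pxx i k) (by rw [H.pxy, if_neg hi]),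
        H.flip_fix k c (H.pxx i k) (by rw [H.pxy, if_neg hi]), Pi.mulSingle_eq_of_ne hi, Units.val_one,
        one_smul]
  · rw [app_mul, H.tor_y]
    by_cases hi : i = k
    · subst hi
      rw [H.flip_y _ c'.ne_zero, map_smul, H.flip_x _ c.ne_zero, smul_smul, Pi.mulSingle_eq_same,
        inv_div, Units.smul_def, Units.val_div_eq_div_val, div_eq_inv_mul]
    · rw [H.flip_fix k c' (by rw [H.pyx, if_neg hi]) (H.pyy i k),
        H.flip_fix k c (by rw [H.pyx, if_neg hi]) (H.pyy i k), Pi.mulSingle_eq_of_ne hi, inv_one,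
        one_smul]
  · rw [H.lev_rest _ hv, app_mul]
    rw [H.rest_iff] at hv
    rw [H.flip_fix k _ (hv k).1 (hv k).2, H.flip_fix k _ (hv k).1 (hv k).2]

/-- The Levi transvection is an Eichler transformation. -/
theorem lev_transvection {i j : Fin r} (hij : i ≠ j) (c : F) :
    H.lev (SpecialLinearGroup.toGL (SpecialLinearGroup.transvection hij c)) =
      eich Q (H.x i) ((-c) • H.y j) := by
  have hp : polar Q (H.x i) ((-c) • H.y j) = 0 := by rw [polar_smul_right, H.pxy, if_neg hij, smul_zero]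
  refine H.ext_hyp (fun l => ?_) (fun l => ?_) (fun v hv => ?_)
  · rw [H.lev_x, app_eich (H.Qx i) hp, H.pxx, polar_smul_right, H.pxy]
    show H.X ((SpecialLinearGroup.transvection hij c).1 *ᵥ _) = _
    rw [SpecialLinearGroup.transvection_coe, add_mulVec, one_mulVec, map_add, H.X_single,
      single_mulVec, one_smul]
    by_cases hl : l = j
    · subst hl
      simp [show Function.update (0 : Fin r → F) i c = Pi.single i c from rfl, H.X_single]
    · simp [hl, show Function.update (0 : Fin r → F) i 0 = Pi.single i 0 from rfl, H.X_single]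
  · rw [app_eich (H.Qx i) hp, H.pyx, polar_smul_right, H.pyy,
      H.lev_y _ l (u := Pi.single l 1 + if l = i then Pi.single j (-c) else 0)]
    · by_cases hl : l = i
      · subst hl
        simp [map_add, H.Y_single, QuadraticMap.map_neg, QuadraticMap.map_smul, H.Qy]
      · simp [hl, H.Y_single]
    · show ((SpecialLinearGroup.transvection hij c).1)ᵀ *ᵥ _ = _
      rw [SpecialLinearGroup.transvection_coe, transpose_add, transpose_one, transpose_single,
        add_mulVec, one_mulVec, mulVec_add, single_mulVec, single_mulVec]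
      by_cases hl : l = i
      · subst hl
        simp [Ne.symm hij, hij, show ∀ a, Function.update (0 : Fin r → F) j a = Pi.single j a from fun _ => rfl,
          ← Pi.single_add, add_assoc]
      · rw [if_neg hl]
        simp [Ne.symm hl]
  · rw [H.lev_rest _ hv, app_eich (H.Qx i) hp]
    rw [H.rest_iff] at hv
    simp [polar_smul_right, (hv i).1, (hv j).2]

variable [Fintype F] (hQ : Q.polarBilin.Nondegenerate) (hn : 5 ≤ Fintype.card ι)
include hQ hn

theorem lev_mem (A : SpecialLinearGroup (Fin r) F) :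
    H.lev (SpecialLinearGroup.toGL A) ∈ commutator (O Q) := by
  have h := Cfsg.Agent.Classical.sl_subgroup_eq_top_of_transvection_mem
    ((commutator (O Q)).comap (H.lev.comp SpecialLinearGroup.toGL)) (fun i j hij c => by
      show H.lev (SpecialLinearGroup.toGL (SpecialLinearGroup.transvection hij c)) ∈ commutator (O Q)
      rw [H.lev_transvection]
      exact CfsgLib.POmega.eich_mem_commutator hQ hn (H.Qx i)
        (by rw [polar_smul_right, H.pxy, if_neg hij, smul_zero]))
  exact (h.symm ▸ Subgroup.mem_top A : A ∈ (commutator (O Q)).comap (H.lev.comp SpecialLinearGroup.toGL))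

theorem tor_mem (d : Fin r → Fˣ) (hd : ∏ i, d i = 1) : H.lev (diagGL d) ∈ commutator (O Q) := by
  have hdet : (Matrix.diagonal fun i => (d i : F)).det = 1 := by
    rw [Matrix.det_diagonal, ← Units.coe_prod, hd, Units.val_one]
  have := H.lev_mem hQ hn ⟨_, hdet⟩
  rwa [show SpecialLinearGroup.toGL (⟨_, hdet⟩ : SpecialLinearGroup (Fin r) F) = diagGL d from
    Units.ext rfl] at this

open scoped commutatorElement in
omit hn [Fintype F] in
theorem refl_pair_mem {u v : ι → F} (hu : Q u ≠ 0) (huv : Q u = Q v) :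
    refl Q u * refl Q v ∈ commutator (O Q) := by
  have hne : ∀ z : ι → F, Q z ≠ 0 → LinearIndependent F fun _ : Fin 1 => z := fun z hz =>
    linearIndependent_unique_iff.2 fun h => hz (by rw [h, QuadraticMap.map_zero])
  obtain ⟨φ, hφ⟩ := CfsgLib.POmega.exists_O_map hQ (fun _ : Fin 1 => v) (fun _ : Fin 1 => u)
    (hne v (huv ▸ hu)) (hne u hu) (fun _ => huv.symm)
    (fun _ _ => by rw [polar_self', polar_self', huv])
  have : refl Q u * refl Q v = ⁅φ, refl Q v⁆ := by
    rw [commutatorElement_def, refl_conj, hφ 0, refl_inv]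
  rw [this]
  exact Subgroup.commutator_mem_commutator (Subgroup.mem_top _) (Subgroup.mem_top _)

/-- A torus element of square value on one pair. -/
theorem tor_single_sq_mem (k : Fin r) (w : Fˣ) :
    H.lev (diagGL (Pi.mulSingle k (w * w))) ∈ commutator (O Q) := by
  have e := H.flip_flip k (c := 1) (c' := w * w)
  rw [div_one] at e
  rw [← e, flip, flip, ← refl_smul w.ne_zero (H.x k - ((1 : Fˣ) : F) • H.y k)]
  refine refl_pair_mem hQ ?_ ?_
  · rw [QuadraticMap.map_smul, H.Q_flipVec]
    simp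
  · rw [QuadraticMap.map_smul, H.Q_flipVec, H.Q_flipVec]
    simp

omit hQ hn [Fintype F]

/-- The monomial matrix of a permutation, with a correcting sign. -/
theorem exists_mono (σ : Equiv.Perm (Fin r)) (k : Fin r) :
    ∃ (A : SpecialLinearGroup (Fin r) F) (s : F), s * s = 1 ∧
      (∀ j, A.1 *ᵥ Pi.single j 1 = Pi.single (σ j) (if j = k then s else 1)) ∧
      ∀ j, A.1ᵀ *ᵥ Pi.single (σ j) (if j = k then s else 1) = Pi.single j 1 := by
  classical
  set s : F := ((Equiv.Perm.sign σ : ℤ) : F) with hs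
  have hss : s * s = 1 := by
    rw [hs, ← Int.cast_mul, ← Units.val_mul, Int.units_mul_self, Units.val_one, Int.cast_one]
  set d : Fin r → F := fun j => if j = k then s else 1
  let M : Matrix (Fin r) (Fin r) F := Matrix.of fun i j => if i = σ j then d j else 0
  have hM : M = (1 : Matrix (Fin r) (Fin r) F).submatrix id σ * Matrix.diagonal d := by
    ext i j
    simp [M, Matrix.mul_diagonal, Matrix.one_apply]
  have hdet : M.det = 1 := by
    rw [hM, det_mul, Matrix.det_permute', det_one, mul_one, det_diagonal,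
      Finset.prod_eq_single k (fun b _ hb => by simp [d, hb]) (by simp)]
    simpa [d] using hss
  refine ⟨⟨M, hdet⟩, s, hss, fun j => ?_, fun j => ?_⟩
  · funext i
    simp [M, mulVec_single, Pi.single_apply, d]
  · funext i
    simp only [mulVec_single, MulOpposite.smul_eq_mul_unop, MulOpposite.unop_op, col_apply,
      transpose_apply, M, of_apply, Pi.smul_apply, Pi.single_apply]
    by_cases hi : i = j
    · subst hi
      simp only [if_true]
      by_cases hk : i = k
      · simp [d, hk, hss]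
      · simp [d, hk]
    · rw [if_neg (fun h => hi (σ.injective h).symm), if_neg hi, zero_mul]

end Hyp

end CfsgLib.TwoGen46
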