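import Cfsg.Agent.Lib.POmega.Basic

/-!
A cyclically permuted frame of hyperbolic pairs: when a subgroup of `O Q` containing the cycle
element and the Eichler transformations at one vector contains the commutator subgroup.
-/

set_option autoImplicit false

namespace CfsgLib.TwoGen46

open QuadraticMap CfsgLib.Orth

variable {ι : Type} [Fintype ι] [DecidableEq ι] {F : Type*} [Field F]
  {Q : QuadraticForm F (ι → F)}

/-- An isometry `w` with an orbit `P k`, periodic up to scalars with period `2n`, in which `P k` is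
paired with `P (k + n)` only. -/
structure Cycle (Q : QuadraticForm F (ι → F)) (n : ℕ) where
  w : O Q
  P : ℤ → ι → F
  act : ∀ k, app w (P k) = P (k + 1)
  sing : Q (P 0) = 0
  orth : ∀ d : ℕ, 0 < d → d < n → polar Q (P 0) (P d) = 0
  top : polar Q (P 0) (P n) ≠ 0
  per : ∃ c : F, c ≠ 0 ∧ P (2 * n : ℕ) = c • P 0

namespace Cycle

variable {n : ℕ} (C : Cycle Q n)

theorem inv_act (k : ℤ) : app C.w⁻¹ (C.P k) = C.P (k - 1) :=
  app_injective C.w (by rw [app_app_inv, C.act, sub_add_cancel])

theorem zpow_act (s k : ℤ) : app (C.w ^ s) (C.P k) = C.P (k + s) := by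
  induction s using Int.induction_on generalizing k with
  | zero => rw [zpow_zero, app_one, add_zero]
  | succ i ih => rw [_root_.zpow_add_one, app_mul, C.act, ih]; ring_nf
  | pred i ih => rw [_root_.zpow_sub_one, app_mul, C.inv_act, ih]; ring_nf

theorem Q_P (k : ℤ) : Q (C.P k) = 0 := by
  rw [show C.P k = app (C.w ^ k) (C.P 0) by rw [C.zpow_act, zero_add], Q_app, C.sing]

theorem polar_shift (i j s : ℤ) : polar Q (C.P (i + s)) (C.P (j + s)) = polar Q (C.P i) (C.P j) := by
  rw [← C.zpow_act, ← C.zpow_act, polar_app]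

theorem per_shift : ∃ c : F, c ≠ 0 ∧ ∀ k : ℤ, C.P (k + 2 * (n : ℤ)) = c • C.P k := by
  obtain ⟨c, hc, h⟩ := C.per
  refine ⟨c, hc, fun k => ?_⟩
  have := congrArg (app (C.w ^ k)) h
  rw [map_smul, C.zpow_act, C.zpow_act, zero_add] at this
  rw [← this, add_comm k]
  push_cast
  ring_nf

theorem polar_zero {d : ℤ} (h1 : -2 * (n : ℤ) < d) (h2 : d < 2 * (n : ℤ)) (h3 : d ≠ n)
    (h4 : d ≠ -(n : ℤ)) : polar Q (C.P 0) (C.P d) = 0 := by
  have aux : ∀ e : ℕ, e < 2 * n → e ≠ n → polar Q (C.P 0) (C.P e) = 0 := by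
    intro e he hen
    rcases Nat.eq_zero_or_pos e with rfl | he0
    · rw [Nat.cast_zero, polar_self', C.sing, mul_zero]
    rcases lt_or_gt_of_ne hen with h | h
    · exact C.orth e he0 h
    obtain ⟨c, hc, hper⟩ := C.per_shift
    have h5 := C.polar_shift 0 ((2 * n - e : ℕ) : ℤ) (e : ℤ)
    rw [zero_add, C.orth _ (by omega) (by omega),
      show ((2 * n - e : ℕ) : ℤ) + (e : ℤ) = 0 + 2 * (n : ℤ) by omega, hper, polar_smul_right,
      smul_eq_mul, mul_eq_zero, polar_comm] at h5
    exact h5.resolve_left hc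
  rcases le_or_gt 0 d with hd | hd
  · lift d to ℕ using hd
    exact aux d (by omega) (by omega)
  · have := C.polar_shift 0 (-d) d
    rw [zero_add, neg_add_cancel, polar_comm] at this
    rw [this]
    lift -d to ℕ using (by omega) with e he
    exact aux e (by omega) (by omega)

theorem polar_ne (k : ℤ) : polar Q (C.P k) (C.P (k + n)) ≠ 0 := by
  have := C.polar_shift 0 n k
  rw [zero_add, add_comm (n : ℤ) k] at this
  rw [this]
  exact C.top

theorem polar_eq_zero {i j : ℤ} (h1 : i - 2 * (n : ℤ) < j) (h2 : j < i + 2 * (n : ℤ)) (h3 : j ≠ i + n)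
    (h4 : j ≠ i - n) : polar Q (C.P i) (C.P j) = 0 := by
  have := C.polar_shift 0 (j - i) i
  rw [zero_add, sub_add_cancel] at this
  rw [this]
  exact C.polar_zero (by omega) (by omega) (by omega) (by omega)

/-- Orthogonal to the whole orbit. -/
def Perp (a : ι → F) : Prop := ∀ k, polar Q a (C.P k) = 0

theorem perp_of_window (hn : 0 < n) {a : ι → F}
    (h : ∀ e : Fin (2 * n), polar Q a (C.P (e.val : ℤ)) = 0) : C.Perp a := by
  obtain ⟨c, hc, hper⟩ := C.per_shift
  intro k
  have h2 : ∀ m : ℤ, ∀ e : Fin (2 * n), polar Q a (C.P ((e.val : ℤ) + m * (2 * (n : ℤ)))) = 0 := by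
    intro m
    induction m using Int.induction_on with
    | zero => intro e; simpa using h e
    | succ i ih =>
      intro e
      rw [show (e.val : ℤ) + ((i : ℤ) + 1) * (2 * (n : ℤ)) = e.val + (i : ℤ) * (2 * (n : ℤ)) + 2 * (n : ℤ) by ring,
        hper, polar_smul_right, ih, smul_zero]
    | pred i ih =>
      intro e
      have := hper ((e.val : ℤ) + (-(i : ℤ) - 1) * (2 * (n : ℤ)))
      rw [show (e.val : ℤ) + (-(i : ℤ) - 1) * (2 * (n : ℤ)) + 2 * (n : ℤ)
        = e.val + (-(i : ℤ)) * (2 * (n : ℤ)) by ring] at this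
      have h3 := ih e
      rw [this, polar_smul_right, smul_eq_mul, mul_eq_zero] at h3
      exact h3.resolve_left hc
  have hm := Int.emod_nonneg k (show (2 * (n : ℤ)) ≠ 0 by omega)
  have hm' := Int.emod_lt_of_pos k (show (0 : ℤ) < 2 * (n : ℤ) by omega)
  have := h2 (k / (2 * (n : ℤ))) ⟨(k % (2 * (n : ℤ))).toNat, by omega⟩
  simp only at this
  rwa [Int.toNat_of_nonneg hm, add_comm, Int.ediv_mul_add_emod] at this

theorem decomp (hn : 0 < n) (a : ι → F) : ∃ (f : Fin (2 * n) → F) (a₀ : ι → F), C.Perp a₀ ∧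
    (∀ e, f e = 0 ↔ polar Q a (C.P ((e.val : ℤ) + n)) = 0) ∧
    a = ∑ e, f e • C.P (e.val : ℤ) + a₀ := by
  classical
  refine ⟨fun e => polar Q a (C.P ((e.val : ℤ) + n)) / polar Q (C.P (e.val : ℤ)) (C.P ((e.val : ℤ) + n)),
    _, ?_, fun e => by simp [C.polar_ne], (add_sub_cancel _ a).symm⟩
  refine C.perp_of_window hn fun e => ?_
  rw [polar_sub_left, ← QuadraticMap.polarBilin_apply_apply Q (∑ _ ∈ _, _), map_sum, LinearMap.sum_apply,
    sub_eq_zero]
  simp only [map_smul, LinearMap.smul_apply, QuadraticMap.polarBilin_apply_apply, smul_eq_mul]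
  obtain ⟨c, hc, hper⟩ := C.per_shift
  by_cases he : e.val < n
  · rw [Finset.sum_eq_single ⟨e.val + n, by omega⟩]
    · simp only [Nat.cast_add]
      rw [show ((e.val : ℤ) + n + n) = e.val + 2 * (n : ℤ) by ring, hper, polar_smul_right,
        polar_smul_right]
      have h1 := C.polar_ne (e.val : ℤ)
      rw [polar_comm] at h1
      simp only [smul_eq_mul]
      field_simp
    · intro b _ hb
      rw [C.polar_eq_zero (i := (b.val : ℤ)) (j := (e.val : ℤ)) (by omega) (by omega) ?_ ?_, mul_zero]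
      · omega
      · intro h; exact hb (Fin.ext (by simp only; omega))
    · simp
  · rw [Finset.sum_eq_single ⟨e.val - n, by omega⟩]
    · simp only [Nat.cast_sub (not_lt.1 he), sub_add_cancel]
      have h1 := C.polar_ne ((e.val : ℤ) - n)
      rw [sub_add_cancel] at h1
      field_simp
    · intro b _ hb
      rw [C.polar_eq_zero (i := (b.val : ℤ)) (j := (e.val : ℤ)) (by omega) (by omega) ?_ ?_, mul_zero]
      · intro h; exact hb (Fin.ext (by simp only; omega))
      · omega
    · simp

variable {K : Subgroup (O Q)}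

theorem eich_shift (hw : C.w ∈ K) {k : ℤ} {a : ι → F} (ha : polar Q (C.P k) a = 0)
    (h : eich Q (C.P k) a ∈ K) (j : ℤ) : eich Q (C.P (k + j)) (app (C.w ^ j) a) ∈ K := by
  have := mul_mem (mul_mem (zpow_mem hw j) h) (inv_mem (zpow_mem hw j))
  rwa [eich_conj (C.Q_P k) ha, C.zpow_act] at this

/-- The first criterion. -/
theorem eich_mem_of_parts (hw : C.w ∈ K) (hn : 0 < n)
    (hW : ∀ a, C.Perp a → eich Q (C.P 0) a ∈ K)
    (hP : ∀ d : ℕ, 0 < d → d < 2 * n → d ≠ n → ∀ c : F, eich Q (C.P 0) (c • C.P d) ∈ K)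
    (k : ℤ) {a : ι → F} (h0 : polar Q (C.P k) a = 0) (h1 : polar Q (C.P (k + n)) a = 0) :
    eich Q (C.P k) a ∈ K := by
  classical
  have key : ∀ a, polar Q (C.P 0) a = 0 → polar Q (C.P n) a = 0 → eich Q (C.P 0) a ∈ K := by
    intro a h0 h1
    obtain ⟨f, a₀, hperp, hf, rfl⟩ := C.decomp hn a
    obtain ⟨c, hc, hper⟩ := C.per_shift
    have f0 : f ⟨0, by omega⟩ = 0 := (hf _).2 (by rw [polar_comm]; simpa using h1)
    have fn : f ⟨n, by omega⟩ = 0 := (hf _).2 (by
      have := hper 0
      rw [zero_add] at this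
      simp only
      rw [← two_mul, this, polar_smul_right, polar_comm, h0, smul_zero])
    have hz : ∀ e : Fin (2 * n), polar Q (C.P 0) (f e • C.P (e.val : ℤ)) = 0 := fun e => by
      by_cases h : e.val = n
      · rw [show e = ⟨n, by omega⟩ from Fin.ext h, fn, zero_smul, polar_zero_right]
      · rw [polar_smul_right, C.polar_zero (by omega) (by omega) (by omega) (by omega), smul_zero]
    have hs : ∀ s : Finset (Fin (2 * n)), polar Q (C.P 0) (∑ e ∈ s, f e • C.P (e.val : ℤ)) = 0 := by
      intro s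
      rw [← QuadraticMap.polarBilin_apply_apply, map_sum]
      exact Finset.sum_eq_zero fun e _ => hz e
    have ha₀ : polar Q (C.P 0) a₀ = 0 := by rw [polar_comm]; exact hperp 0
    rw [← eich_add C.sing (hs _) ha₀]
    refine mul_mem ?_ (hW _ hperp)
    have : ∀ s : Finset (Fin (2 * n)), eich Q (C.P 0) (∑ e ∈ s, f e • C.P (e.val : ℤ)) ∈ K := by
      intro s
      induction s using Finset.induction_on with
      | empty => rw [Finset.sum_empty, CfsgLib.POmega.eich_zero_right C.sing]; exact K.one_mem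
      | insert e s he ih =>
        rw [Finset.sum_insert he, ← eich_add C.sing (hz e) (hs s)]
        refine mul_mem ?_ ih
        by_cases h : e.val = n ∨ e.val = 0
        · have : f e = 0 := by
            rcases h with h | h
            · rw [show e = ⟨n, by omega⟩ from Fin.ext h, fn]
            · rw [show e = ⟨0, by omega⟩ from Fin.ext h, f0]
          rw [this, zero_smul, CfsgLib.POmega.eich_zero_right C.sing]
          exact K.one_mem
        · exact hP e.val (by omega) e.isLt (by omega) _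
    exact this _
  have hk0 : C.P 0 = app (C.w ^ (-k)) (C.P k) := by rw [C.zpow_act, add_neg_cancel]
  have hkn : C.P n = app (C.w ^ (-k)) (C.P (k + n)) := by rw [C.zpow_act]; congr 1; ring
  have h2 : polar Q (C.P 0) (app (C.w ^ (-k)) a) = 0 := by rw [hk0, polar_app, h0]
  have h3 := C.eich_shift hw h2 (key _ h2 (by rw [hkn, polar_app, h1])) k
  rwa [zero_add, ← app_mul, ← zpow_add, add_neg_cancel, zpow_zero, app_one] at h3

/-- The second criterion: all Eichler transformations. -/
theorem eichGroup_le (hQ : Q.polarBilin.Nondegenerate) (hw : C.w ∈ K) (hn : 0 < n)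
    (hW : ∀ a, C.Perp a → eich Q (C.P 0) a ∈ K)
    (hP : ∀ d : ℕ, 0 < d → d < 2 * n → d ≠ n → ∀ c : F, eich Q (C.P 0) (c • C.P d) ∈ K) :
    CfsgLib.POmega.eichGroup Q ≤ K := by
  classical
  let S : Set (ι → F) := {v | ∀ a, polar Q v a = 0 → eich Q v a ∈ K}
  have hSmul : ∀ v, Q v = 0 → ∀ t : F, v ∈ S → t • v ∈ S := by
    intro v hv t hS a ha
    rcases eq_or_ne t 0 with rfl | ht
    · rw [zero_smul, eich_zero_left]; exact K.one_mem
    rw [polar_smul_left, smul_eq_mul, mul_eq_zero] at ha
    have ha := ha.resolve_left ht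
    rw [CfsgLib.POmega.eich_smul hv ha]
    exact hS _ (by rw [polar_smul_right, ha, smul_zero])
  have hSact : ∀ g ∈ K, ∀ v, Q v = 0 → app g v ∈ S → v ∈ S := by
    intro g hg v hv hS a ha
    have := mul_mem (mul_mem (inv_mem hg) (hS (app g a) (by rw [polar_app, ha]))) (inv_mem (inv_mem hg))
    rwa [← eich_conj hv ha, inv_inv, ← mul_assoc, ← mul_assoc, inv_mul_cancel, one_mul, mul_assoc,
      inv_mul_cancel, mul_one] at this
  have hu : ∀ k, C.P k ∈ S := by
    intro k a ha
    have hne := C.polar_ne k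
    set t := polar Q (C.P (k + n)) a / polar Q (C.P k) (C.P (k + n))
    have h1 : polar Q (C.P k) (a - t • C.P k) = 0 := by
      rw [polar_sub_right, polar_smul_right, ha, polar_self', C.Q_P]; simp
    have h2 : polar Q (C.P (k + n)) (a - t • C.P k) = 0 := by
      rw [polar_sub_right, polar_smul_right, polar_comm _ (C.P (k + n)) (C.P k)]
      simp [t, hne]
    have := CfsgLib.POmega.eich_add_smul (C.Q_P k) h1 t
    rw [sub_add_cancel] at this
    rw [this]
    exact C.eich_mem_of_parts hw hn hW hP k h1 h2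
  have hnear : ∀ v, Q v = 0 → ∀ k, polar Q v (C.P k) ≠ 0 → v ∈ S := by
    intro v hv k hk
    obtain ⟨c, hc, hper⟩ := C.per_shift
    have hne := C.polar_ne k
    set p := polar Q v (C.P k)
    set β := p / polar Q (C.P k) (C.P (k + n))
    set α := polar Q v (C.P (k + n)) / polar Q (C.P k) (C.P (k + n))
    set z := v - α • C.P k - β • C.P (k + n)
    have hz1 : polar Q (C.P k) z = 0 := by
      simp [z, β, p, polar_sub_right, polar_smul_right, polar_self', C.Q_P,
        polar_comm (f := ⇑Q) (C.P k) v, hne]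
    have hz2 : polar Q (C.P (k + n)) z = 0 := by
      simp [z, α, polar_sub_right, polar_smul_right, polar_self', C.Q_P,
        polar_comm (f := ⇑Q) (C.P (k + n)) v, polar_comm (f := ⇑Q) (C.P (k + n)) (C.P k), hne]
    set a := (-p⁻¹) • z
    have ha : polar Q (C.P k) a = 0 := by rw [polar_smul_right, hz1, smul_zero]
    have hg : eich Q (C.P k) a ∈ K := hu k a ha
    obtain ⟨α', hα'⟩ : ∃ α' : F, app (eich Q (C.P k) a) v = α' • C.P k + β • C.P (k + n) := by
      refine ⟨α + (-(polar Q v a) - Q a * p), ?_⟩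
      rw [app_eich (C.Q_P k) ha]
      simp only [a, p, smul_smul, mul_neg, mul_inv_cancel₀ hk, neg_one_smul, z]
      module
    have hβ : β ≠ 0 := div_ne_zero hk hne
    have hα0 : α' = 0 := by
      have h := Q_app (eich Q (C.P k) a) v
      rw [hα', hv, QuadraticMap.map_add ⇑Q, QuadraticMap.map_smul, QuadraticMap.map_smul, C.Q_P, C.Q_P,
        polar_smul_left, polar_smul_right] at h
      simpa [hβ, hne] using h
    refine hSact _ hg v hv ?_
    rw [hα', hα0, zero_smul, zero_add]
    exact hSmul _ (C.Q_P _) β (hu _)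
  have hall : ∀ v, Q v = 0 → v ∈ S := by
    intro v hv
    rcases eq_or_ne v 0 with rfl | hv0
    · intro a _; rw [eich_zero_left]; exact K.one_mem
    by_cases h : ∃ k, polar Q v (C.P k) ≠ 0
    · obtain ⟨k, hk⟩ := h
      exact hnear v hv k hk
    push Not at h
    obtain ⟨b, hb⟩ : ∃ b, polar Q v b ≠ 0 := by
      by_contra hcon
      push Not at hcon
      exact hv0 (hQ.1 v hcon)
    obtain ⟨f, a₀, hperp, -, rfl⟩ := C.decomp hn b
    have hva : polar Q v a₀ ≠ 0 := by
      rw [polar_add_right, ← QuadraticMap.polarBilin_apply_apply Q v (∑ _ ∈ _, _), map_sum] at hb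
      simpa [QuadraticMap.polarBilin_apply_apply, polar_smul_right, h] using hb
    have h0 : polar Q (C.P 0) a₀ = 0 := by rw [polar_comm]; exact hperp 0
    refine hSact _ (hW _ hperp) v hv (hnear _ (by rw [Q_app, hv]) n ?_)
    rw [app_eich C.sing h0]
    simp [polar_add_left, polar_sub_left, polar_smul_left, h, hperp, hva, C.top]
  refine (Subgroup.closure_le _).2 ?_
  rintro _ ⟨u, a, hu', ha, rfl⟩
  exact hall u hu' a ha

/-- `[E(u, a), E(u', a')]`. -/
theorem eich_mem_of_mixed {u u' a a' : ι → F} (hu : Q u = 0) (hu' : Q u' = 0)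
    (huu : polar Q u' u = 0) (ha : polar Q u a = 0) (hua : polar Q u' a = 0)
    (ha' : polar Q u' a' = 0) (hau : polar Q u a' = 0)
    (h : eich Q u a ∈ K) (h' : eich Q u' a' ∈ K) :
    eich Q u' (-(polar Q a' a) • u) ∈ K := by
  have hc := mul_mem (inv_mem h') (mul_mem (mul_mem h h') (inv_mem h))
  rw [eich_conj hu' ha', app_eich hu ha, app_eich hu ha] at hc
  have e2 : polar Q a' u = 0 := by rw [polar_comm, hau]
  rw [huu, hua, e2] at hc
  simp only [zero_smul, add_zero, sub_zero, mul_zero, neg_zero] at hc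
  have h3 : polar Q u' (-(polar Q a' a) • u) = 0 := by rw [polar_smul_right, huu, smul_zero]
  rw [← eich_add hu' ha' h3] at hc
  simpa using hc

/-- When the orthogonal complement of the orbit is not totally degenerate. -/
theorem orbit_mem_of_perp (hw : C.w ∈ K) (hW : ∀ a, C.Perp a → eich Q (C.P 0) a ∈ K)
    {z z' : ι → F} (hz : C.Perp z) (hz' : C.Perp z') (hzz : polar Q z' z ≠ 0)
    (d : ℕ) (hd0 : 0 < d) (hd : d < 2 * n) (hdn : d ≠ n) (c : F) :
    eich Q (C.P 0) (c • C.P d) ∈ K := by
  have hperp_w : ∀ {a}, C.Perp a → ∀ j : ℤ, C.Perp (app (C.w ^ j) a) := fun {a} ha j k => by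
    rw [show C.P k = app (C.w ^ j) (C.P (k - j)) by rw [C.zpow_act, sub_add_cancel], polar_app, ha]
  have hd' : ∀ a, C.Perp a → eich Q (C.P d) a ∈ K := fun a ha => by
    have h := C.eich_shift hw (by rw [polar_comm]; exact hperp_w ha (-(d : ℤ)) 0)
      (hW _ (hperp_w ha (-(d : ℤ)))) d
    rwa [zero_add, ← app_mul, ← zpow_add, add_neg_cancel, zpow_zero, app_one] at h
  set t := -(c / polar Q z' z)
  have htz : C.Perp (t • z) := fun k => by rw [polar_smul_left, hz k, smul_zero]
  have := eich_mem_of_mixed (C.Q_P d) C.sing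
    (C.polar_zero (by omega) (by omega) (by omega) (by omega))
    (by rw [polar_comm]; exact htz _) (by rw [polar_comm]; exact htz _)
    (by rw [polar_comm]; exact hz' _) (by rw [polar_comm]; exact hz' _)
    (hd' _ htz) (hW _ hz')
  rwa [polar_smul_right, smul_eq_mul, show -(t * polar Q z' z) = c by simp [t, hzz]] at this

end Cycle

end CfsgLib.TwoGen46
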