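import Cfsg.Agent.Lib.TwoGen46.OrthStep
import Cfsg.Agent.Lib.POmega.Forms
import Mathlib.RingTheory.AdjoinRoot

/-! Two generators of `PΩ⁻_{2m}(q)`. -/

set_option autoImplicit false

namespace CfsgLib.TwoGen46

open QuadraticMap CfsgLib.Orth Matrix CfsgLib.POmega

variable {F : Type*} [Field F]

/-- A root of `X² - T X + 1` outside `F` has order dividing `q + 1`. -/
theorem quad_dvd_pow_card_add_one [Fintype F] {T : F} (h : ∀ c : F, c * c - T * c + 1 ≠ 0) :
    (Polynomial.X ^ 2 - Polynomial.C T * Polynomial.X + 1 : Polynomial F) ∣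
      Polynomial.X ^ (Fintype.card F + 1) - 1 := by
  classical
  set f : Polynomial F := Polynomial.X ^ 2 - Polynomial.C T * Polynomial.X + 1 with hf
  have hmon : f.Monic := by rw [hf]; monicity!
  have hdeg : f.natDegree = 2 := by rw [hf]; compute_degree!
  have hev : ∀ c, f.eval c = c * c - T * c + 1 := fun c => by simp [hf, pow_two]
  have hirr : Irreducible f := by
    rw [hmon.irreducible_iff_roots_eq_zero_of_degree_le_three (by omega) (by omega)]
    refine Multiset.eq_zero_of_forall_notMem fun c hc => ?_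
    rw [Polynomial.mem_roots hmon.ne_zero, Polynomial.IsRoot.def, hev] at hc
    exact h c hc
  have : Fact (Irreducible f) := ⟨hirr⟩
  rw [← AdjoinRoot.mk_eq_zero, map_sub, map_pow, AdjoinRoot.mk_X, map_one, sub_eq_zero]
  set ζ := AdjoinRoot.root f
  set i := algebraMap F (AdjoinRoot f) with hi
  have hζ : ζ ^ 2 - i T * ζ + 1 = 0 := by
    have e := AdjoinRoot.eval₂_root f
    simpa [hf, Polynomial.eval₂_add, Polynomial.eval₂_sub, hi, AdjoinRoot.algebraMap_eq] using e
  have hζq : (ζ ^ Fintype.card F) ^ 2 - i T * ζ ^ Fintype.card F + 1 = 0 := by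
    have e := congrArg (FiniteField.frobeniusAlgHom F (AdjoinRoot f)) hζ
    rw [map_add, map_sub, map_pow, map_mul, map_one, map_zero, hi, AlgHom.commutes,
      show FiniteField.frobeniusAlgHom F (AdjoinRoot f) ζ = ζ ^ Fintype.card F by
        rw [FiniteField.coe_frobeniusAlgHom]] at e
    exact e
  have hne : ζ ^ Fintype.card F ≠ ζ := by
    intro hfix
    have hnot : ∀ c : F, ζ ≠ i c := fun c hc => h c (i.injective (by
      rw [map_zero, map_add, map_sub, map_mul, map_mul, map_one, ← hc]; linear_combination hζ))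
    let g : Polynomial (AdjoinRoot f) := Polynomial.X ^ Fintype.card F - Polynomial.X
    have hg : g ≠ 0 := FiniteField.X_pow_card_sub_X_ne_zero _ Fintype.one_lt_card
    have hsub : insert ζ (Finset.univ.image i) ⊆ g.roots.toFinset := by
      intro z hz
      rw [Multiset.mem_toFinset, Polynomial.mem_roots hg, Polynomial.IsRoot.def]
      simp only [g, Polynomial.eval_sub, Polynomial.eval_pow, Polynomial.eval_X, sub_eq_zero]
      rcases Finset.mem_insert.1 hz with rfl | hz
      · exact hfix
      · obtain ⟨c, -, rfl⟩ := Finset.mem_image.1 hz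
        rw [← map_pow, FiniteField.pow_card]
    have h1 := Finset.card_le_card hsub
    rw [Finset.card_insert_of_notMem (fun hz => by
      obtain ⟨c, -, hc⟩ := Finset.mem_image.1 hz; exact hnot c hc.symm),
      Finset.card_image_of_injective _ i.injective, Finset.card_univ] at h1
    have h2 := (Multiset.toFinset_card_le g.roots).trans (Polynomial.card_roots' g)
    rw [FiniteField.X_pow_card_sub_X_natDegree_eq _ Fintype.one_lt_card] at h2
    omega
  have hsum : ζ ^ Fintype.card F + ζ - i T = 0 := by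
    have : (ζ ^ Fintype.card F - ζ) * (ζ ^ Fintype.card F + ζ - i T) = 0 := by
      linear_combination hζq - hζ
    exact (mul_eq_zero.1 this).resolve_left (sub_ne_zero.2 hne)
  rw [pow_succ]
  linear_combination ζ * hsum - hζ

/-- The standard pairs of `minusQ`. -/
noncomputable def minusHyp (m : ℕ) (a b : F) : Hyp (minusQ m F a b) m where
  x i := Pi.single (.inl (.inl i)) 1
  y i := Pi.single (.inl (.inr i)) 1
  Qx i := by rw [minusQ_coe]; simp [Cfsg.quadFormMinus, Pi.single_apply]
  Qy i := by rw [minusQ_coe]; simp [Cfsg.quadFormMinus, Pi.single_apply]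
  pxx i j := by simp [polar_minusQ, Pi.single_apply]
  pyy i j := by simp [polar_minusQ, Pi.single_apply]
  pxy i j := by simp [polar_minusQ, Pi.single_apply]; grind

theorem minus_two_gen [Fintype F] {k : ℕ} (hk : 3 ≤ k) {a b : F}
    (hab : ∀ z₁ z₂ : F, z₁ ^ 2 + a * z₁ * z₂ + b * z₂ ^ 2 = 0 → z₁ = 0 ∧ z₂ = 0) :
    ∃ g g' : Cfsg.POmega F ⇑(minusQ k F a b), Subgroup.closure ({g, g'} : Set _) = ⊤ := by
  classical
  set Q := minusQ k F a b with hQdef
  have hQ : Q.polarBilin.Nondegenerate := minusQ_nondegenerate_any hab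
  have hn : 5 ≤ Fintype.card ((Fin k ⊕ Fin k) ⊕ Fin 2) := by simp; omega
  set H : Hyp Q k := minusHyp k a b
  obtain ⟨t, hβ⟩ : ∃ t : F, a + 2 * t ≠ 0 := by
    by_cases ha : a = 0
    · refine ⟨1, fun h => ?_⟩
      rw [ha, zero_add, mul_one] at h
      have : CharP F 2 := CharTwo.of_one_ne_zero_of_two_eq_zero one_ne_zero h
      obtain ⟨r, hr⟩ := FiniteField.isSquare_of_char_two (ringChar.eq_iff.2 inferInstance) b
      have := (hab r 1 (by rw [ha, hr]; linear_combination (r * r) * h)).2
      exact one_ne_zero this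
    · exact ⟨0, by simpa using ha⟩
  set β := a + 2 * t with hβdef
  set p : F := t ^ 2 + a * t + b with hpdef
  have hp : p ≠ 0 := fun h => one_ne_zero (hab t 1 (by rw [← h, hpdef]; ring)).2
  set v : (Fin k ⊕ Fin k) ⊕ Fin 2 → F := Pi.single (.inr 0) 1 with hvdef
  set e1 : (Fin k ⊕ Fin k) ⊕ Fin 2 → F := Pi.single (.inr 1) 1 with he1def
  set v' := e1 + t • v with hv'def
  have hQv : Q v = 1 := by rw [hQdef, minusQ_coe]; simp [Cfsg.quadFormMinus, hvdef]
  have hQv' : Q v' = p := by
    rw [hQdef, minusQ_coe]; simp [Cfsg.quadFormMinus, hv'def, hvdef, he1def, hpdef]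
  have hvv' : polar Q v v' = β := by
    rw [hQdef, polar_minusQ]; simp [hv'def, hvdef, he1def, hβdef]; ring
  have hvp : ∀ i : Fin k, polar Q v (H.x i) = 0 ∧ polar Q v (H.y i) = 0 := fun i => by
    constructor <;> simp [hQdef, H, minusHyp, polar_minusQ, hvdef, Pi.single_apply]
  have hv'p : ∀ i : Fin k, polar Q v' (H.x i) = 0 ∧ polar Q v' (H.y i) = 0 := fun i => by
    constructor <;> simp [hQdef, H, minusHyp, polar_minusQ, hv'def, hvdef, he1def, Pi.single_apply]
  obtain ⟨C, κ, hκ, hwmem, hx, hy, hper, hwv⟩ := H.exists_cycle hQ hn (n := k) (by omega) le_rfl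
    (z := v) (by rw [hQv]; exact one_ne_zero) (fun i _ => hvp i)
  have hperp_iff : ∀ u, (∀ i : Fin k, polar Q u (H.x i) = 0 ∧ polar Q u (H.y i) = 0) → C.Perp u :=
    fun u hu => C.perp_of_window (by omega) fun e => by
      by_cases he : e.val < k
      · rw [hx e.val he]; exact (hu _).1
      · have := hy (e.val - k) (by omega)
        rw [show (k : ℤ) + ((e.val - k : ℕ) : ℤ) = (e.val : ℤ) by omega] at this
        rw [this, polar_smul_right, (hu _).2, smul_zero]
  have hrest : ∀ u, C.Perp u → ∃ c d : F, u = c • v + d • v' := by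
    intro u hu
    refine ⟨u (.inr 0) - t * u (.inr 1), u (.inr 1), funext fun j => ?_⟩
    rcases j with (i | i) | l
    · have := hu ((k : ℤ) + ((i.val : ℕ) : ℤ))
      rw [hy i.val i.isLt, polar_smul_right] at this
      simp [hκ, hQdef, H, minusHyp, polar_minusQ, Pi.single_apply] at this
      simpa [hv'def, hvdef, he1def] using this
    · have := hu ((i.val : ℕ) : ℤ)
      rw [hx i.val i.isLt] at this
      simp [hQdef, H, minusHyp, polar_minusQ, Pi.single_apply] at this
      simpa [hv'def, hvdef, he1def] using this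
    · fin_cases l <;> simp [hv'def, hvdef, he1def] <;> ring
  have hindep : ∀ c d : F, c • v + d • v' = 0 → c = 0 ∧ d = 0 := by
    intro c d h
    have e0 := congrFun h (.inr 0)
    have e1' := congrFun h (.inr 1)
    simp [hv'def, hvdef, he1def] at e0 e1'
    rw [e1', zero_mul, add_zero] at e0
    exact ⟨e0, e1'⟩
  -- the rotation
  set g := refl Q v * refl Q v' with hgdef
  set g' := refl Q v' * refl Q v with hg'def
  have hg'g : g' * g = 1 := by
    rw [hgdef, hg'def, mul_assoc, ← mul_assoc (refl Q v), refl_mul_self, one_mul, refl_mul_self]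
  have hgg' : g * g' = 1 := by
    rw [hgdef, hg'def, mul_assoc, ← mul_assoc (refl Q v'), refl_mul_self, one_mul, refl_mul_self]
  have rv : app (refl Q v) v' = v' - β • v := by
    rw [app_refl, hQv, inv_one, one_mul, polar_comm, hvv']
  have rvv : app (refl Q v) v = -v := app_refl_self (by rw [hQv]; exact one_ne_zero)
  have rv'v : app (refl Q v') v = v - (β / p) • v' := by
    rw [app_refl, hQv', hvv', inv_mul_eq_div]
  have rv'v' : app (refl Q v') v' = -v' := app_refl_self (by rw [hQv']; exact hp)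
  have gv : app g v = (β ^ 2 / p - 1) • v - (β / p) • v' := by
    rw [hgdef, app_mul, rv'v, map_sub, map_smul, rvv, rv]; module
  have gv' : app g v' = β • v - v' := by
    rw [hgdef, app_mul, rv'v', map_neg, rv]; module
  set T := β ^ 2 / p - 2 with hTdef
  have hquad : ∀ u, C.Perp u → app g (app g u) - T • app g u + u = 0 := by
    intro u hu
    obtain ⟨c, d, rfl⟩ := hrest u hu
    simp only [map_add, map_smul, map_sub, gv, gv', hTdef]
    module
  have hdisc : 4 * p - β ^ 2 ≠ 0 := by
    intro h0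
    have hQz : Q (β • v + (-2 : F) • v') = 0 := by
      rw [QuadraticMap.map_add ⇑Q, QuadraticMap.map_smul, QuadraticMap.map_smul, hQv, hQv',
        polar_smul_left, polar_smul_right, hvv']
      simp only [smul_eq_mul]
      linear_combination h0
    have := hab ((β • v + (-2 : F) • v') (.inr 0)) ((β • v + (-2 : F) • v') (.inr 1)) (by
      rw [← hQz, hQdef, minusQ_coe]
      simp [Cfsg.quadFormMinus, hv'def, hvdef, he1def])
    simp [hv'def, hvdef, he1def] at this
    exact hβ (by linear_combination this.1 + t * this.2)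
  have hnofix : ∀ (u : (Fin k ⊕ Fin k) ⊕ Fin 2 → F) (l : F), C.Perp u → app g u = l • u → u = 0 := by
    intro u l hu hl
    obtain ⟨c, d, rfl⟩ := hrest u hu
    by_contra hne
    have e : (c * (β ^ 2 / p - 1) + d * β - l * c) • v + (-(c * (β / p)) - d - l * d) • v' = 0 := by
      rw [map_add, map_smul, map_smul, gv, gv', ← sub_eq_zero] at hl
      rw [← hl]; module
    obtain ⟨q1, q2⟩ := hindep _ _ e
    have hQu : Q (c • v + d • v') ≠ 0 := by
      intro h0
      apply hne
      have := hab ((c • v + d • v') (.inr 0)) ((c • v + d • v') (.inr 1)) (by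
        rw [← h0, hQdef, minusQ_coe]; simp [Cfsg.quadFormMinus, hv'def, hvdef, he1def])
      simp [hv'def, hvdef, he1def] at this
      obtain ⟨t1, t2⟩ := this
      rw [t2, zero_mul, add_zero] at t1
      rw [t1, t2]; simp
    have hl2 : l * l = 1 := by
      have h2 := Q_app g (c • v + d • v')
      rw [hl, QuadraticMap.map_smul, smul_eq_mul] at h2
      exact mul_right_cancel₀ hQu (by rw [h2, one_mul])
    apply hne
    field_simp at q1 q2
    rcases mul_self_eq_one_iff.1 hl2 with rfl | rfl
    · have hd : d * (4 * p - β ^ 2) = 0 := by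
        have q2' : c * β + 2 * d * p = 0 := by linear_combination -q2
        have q1' : c * (β ^ 2 - 2 * p) + d * β * p = 0 := by linear_combination q1
        have : p * (d * (4 * p - β ^ 2)) = 0 := by
          linear_combination β * q1' - (β ^ 2 - 2 * p) * q2'
        exact (mul_eq_zero.1 this).resolve_left hp
      have hd0 := (mul_eq_zero.1 hd).resolve_right hdisc
      have hc0 : c * β = 0 := by rw [hd0] at q2; linear_combination -q2
      rw [hd0, (mul_eq_zero.1 hc0).resolve_right hβ]; simp
    · have hc0 : c * β = 0 := by linear_combination -q2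
      have hc := (mul_eq_zero.1 hc0).resolve_right hβ
      have hd0 : d * (β * p) = 0 := by rw [hc] at q1; linear_combination q1
      rw [hc, (mul_eq_zero.1 hd0).resolve_right (mul_ne_zero hβ hp)]; simp
  have hTroot : ∀ c : F, c * c - T * c + 1 ≠ 0 := by
    intro c hc
    have hv0 : C.Perp v := hperp_iff v hvp
    have hgvperp : C.Perp (app g v) := hperp_iff _ fun i => by
      simp [gv, polar_sub_left, polar_smul_left, (hvp i).1, (hvp i).2, (hv'p i).1, (hv'p i).2]
    set u := app g v - (T - c) • v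
    have hu : app g u = c • u := by
      have := hquad v hv0
      simp only [u, map_sub, map_smul]
      linear_combination (norm := module) this - hc • v
    have hu0 := hnofix u c (C.perp_sub hgvperp (C.perp_smul hv0 _)) hu
    have h1 := hnofix v (T - c) hv0 (sub_eq_zero.1 hu0)
    have := congrArg Q h1
    rw [hQv, QuadraticMap.map_zero] at this
    exact one_ne_zero this
  have hgpow : ∀ u, C.Perp u → app (g ^ (Fintype.card F + 1)) u = u := by
    intro u hu
    obtain ⟨f, hf⟩ := quad_dvd_pow_card_add_one hTroot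
    have hpow : ∀ (j : ℕ) (x : (Fin k ⊕ Fin k) ⊕ Fin 2 → F), (app g ^ j) x = app (g ^ j) x := by
      intro j
      induction j with
      | zero => simp
      | succ j ih => intro x; rw [pow_succ', pow_succ', app_mul, Module.End.mul_apply, ih]
    have e := congrArg (fun P => (Polynomial.aeval (app g) P) u) hf
    rw [mul_comm _ f] at e
    have e0 : (Polynomial.aeval (app g)
        (Polynomial.X ^ 2 - Polynomial.C T * Polynomial.X + 1 : Polynomial F)) u = 0 := by
      simpa [pow_two, Module.algebraMap_end_apply] using hquad u hu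
    simp only [map_mul, Module.End.mul_apply, e0, map_zero] at e
    simp only [map_sub, map_pow, Polynomial.aeval_X, map_one, LinearMap.sub_apply, hpow,
      Module.End.one_apply, sub_eq_zero] at e
    exact e
  -- the torus part
  obtain ⟨ω, hω⟩ := IsCyclic.exists_generator (α := Fˣ)
  set pu : Fˣ := Units.mk0 p hp
  set i0 : Fin k := ⟨0, by omega⟩ with hi0
  set i1 : Fin k := ⟨1, by omega⟩ with hi1
  set il : Fin k := ⟨k - 1, by omega⟩ with hil
  have h01 : i0 ≠ i1 := fun e => by simp [hi0, hi1, Fin.ext_iff] at e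
  have hl0 : il ≠ i0 := fun e => by simp [hil, hi0, Fin.ext_iff] at e; omega
  have hl1 : il ≠ i1 := fun e => by simp [hil, hi1, Fin.ext_iff] at e; omega
  set d : Fin k → Fˣ := Pi.mulSingle i0 ω * Pi.mulSingle i1 ω⁻¹ * Pi.mulSingle i1 pu with hd
  set h := H.lev (Hyp.diagGL d) * g with hh
  have hhmem : h ∈ commutator (O Q) := by
    have e := H.flip_flip i1 (c := -1) (c' := -pu)
    rw [neg_div_neg_eq, div_one] at e
    rw [hh, hd, ← Hyp.diagGL_mul, map_mul, mul_assoc]
    refine mul_mem (H.tor_mem hQ hn _ ?_) ?_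
    · simp only [Pi.mul_apply, Finset.prod_mul_distrib, Finset.prod_pi_mulSingle', Finset.mem_univ, if_true,
        mul_inv_cancel]
    rw [← e, hgdef, Hyp.flip, Hyp.flip]
    set u := H.x i1 - ((-1 : Fˣ) : F) • H.y i1
    set u' := H.x i1 - ((-pu : Fˣ) : F) • H.y i1
    have hQu : Q u = 1 := by rw [H.Q_flipVec]; simp
    have hQu' : Q u' = p := by rw [H.Q_flipVec]; simp [pu]
    have hcm : refl Q u' * refl Q v = refl Q v * refl Q u' := by
      have h1 := refl_conj (refl Q u') v
      rw [app_refl_of_ortho (by simp [u', polar_sub_right, polar_smul_right, (hvp i1).1, (hvp i1).2])] at h1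
      exact mul_inv_eq_iff_eq_mul.1 h1
    rw [show refl Q u * refl Q u' * (refl Q v * refl Q v') = refl Q u * (refl Q u' * refl Q v) * refl Q v'
      by group, hcm, show refl Q u * (refl Q v * refl Q u') * refl Q v'
        = (refl Q u * refl Q v) * (refl Q u' * refl Q v') by group]
    exact mul_mem (Hyp.refl_pair_mem hQ (by rw [hQu]; exact one_ne_zero) (by rw [hQu, hQv]))
      (Hyp.refl_pair_mem hQ (by rw [hQu']; exact hp) (by rw [hQu', hQv']))
  have hgP : ∀ j : ℤ, app g (C.P j) = C.P j := fun j => by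
    rw [hgdef, app_mul, app_refl_of_ortho (v := v') (by rw [polar_comm]; exact hperp_iff v' hv'p j),
      app_refl_of_ortho (v := v) (by rw [polar_comm]; exact hperp_iff v hvp j)]
  have hP0 : app h (C.P 0) = (ω : F) • C.P 0 := by
    rw [hh, app_mul, hgP, show C.P 0 = H.x i0 from hx 0 (by omega), H.tor_x, hd, Pi.mul_apply,
      Pi.mul_apply, Pi.mulSingle_eq_same, Pi.mulSingle_eq_of_ne h01, Pi.mulSingle_eq_of_ne h01, mul_one,
      mul_one]
  have hPm : app h (C.P (-1)) = (1 : F) • C.P (-1) := by
    rw [hh, app_mul, hgP, one_smul]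
    have e := hper (-1)
    rw [show (-1 : ℤ) + 2 * k = (k : ℤ) + ((k - 1 : ℕ) : ℤ) by omega, hy (k - 1) (by omega)] at e
    rw [← e, map_smul]
    show κ • app _ (H.y il) = _
    rw [H.tor_y, hd, Pi.mul_apply, Pi.mul_apply, Pi.mulSingle_eq_of_ne hl0, Pi.mulSingle_eq_of_ne hl1,
      Pi.mulSingle_eq_of_ne hl1, mul_one, mul_one, inv_one, one_smul]
  have hPall : ∀ j, ∃ μ : F, app h (C.P j) = μ • C.P j := fun j => by
    obtain ⟨μ, hμ⟩ := C.forall_of_window (p := fun z => ∃ μ : F, app (H.lev (Hyp.diagGL d)) z = μ • z)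
      (by omega) hper (fun e he => by
      by_cases hem : e < k
      · exact ⟨_, by rw [hx e hem, H.tor_x]⟩
      · have := hy (e - k) (by omega)
        rw [show (k : ℤ) + ((e - k : ℕ) : ℤ) = (e : ℤ) by omega] at this
        exact ⟨(((d ⟨e - k, by omega⟩)⁻¹ : Fˣ) : F), by rw [this, map_smul, H.tor_y, smul_comm]; rfl⟩) j
    exact ⟨μ, by rw [hh, app_mul, hgP, hμ]⟩
  have hperp_g : ∀ u, C.Perp u → C.Perp (app g u) := fun u hu j => by
    rw [← hgP j, polar_app]; exact hu j
  have hperp_g' : ∀ u, C.Perp u → C.Perp (app g' u) := fun u hu j => by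
    rw [← polar_app g, ← app_mul, hgg', app_one, hgP]; exact hu j
  have hha : ∀ u, C.Perp u → app h u = app g u := fun u hu => by
    rw [hh, app_mul, H.lev_rest]
    rw [H.rest_iff]
    intro i
    have hgu := hperp_g u hu
    refine ⟨by rw [← hx i.val i.isLt]; exact hgu _, ?_⟩
    have := hgu ((k : ℤ) + ((i.val : ℕ) : ℤ))
    rw [hy i.val i.isLt, polar_smul_right, smul_eq_mul, mul_eq_zero] at this
    exact this.resolve_left hκ
  have hha' : ∀ u, C.Perp u → app (C.w * h * C.w⁻¹) u = app g' u := fun u hu => by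
    have hw1 : ∀ u, C.Perp u → app C.w u = app (refl Q v) u := fun u hu => hwv u fun i _ => by
      refine ⟨by rw [← hx i.val i.isLt]; exact hu _, ?_⟩
      have := hu ((k : ℤ) + ((i.val : ℕ) : ℤ))
      rw [hy i.val i.isLt, polar_smul_right, smul_eq_mul, mul_eq_zero] at this
      exact this.resolve_left hκ
    have hwi : app C.w⁻¹ u = app (refl Q v) u := by
      apply app_injective C.w
      have : C.Perp (app (refl Q v) u) := fun j => by
        rw [app_refl, polar_sub_left, polar_smul_left, hu j, hperp_iff v hvp j]; simp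
      rw [app_app_inv, hw1 _ this, ← app_mul, refl_mul_self, app_one]
    have hp1 : C.Perp (app (refl Q v) u) := fun j => by
      rw [app_refl, polar_sub_left, polar_smul_left, hu j, hperp_iff v hvp j]; simp
    rw [app_mul, app_mul, hwi, hha _ hp1, hw1 _ (hperp_g _ hp1), ← app_mul, ← app_mul, hgdef, hg'def,
      show refl Q v * (refl Q v * refl Q v') * refl Q v = (refl Q v * refl Q v) * (refl Q v' * refl Q v)
        by group, refl_mul_self, one_mul]
  have hzperp : C.Perp v := hperp_iff v hvp
  set x := eich Q (C.P 0) v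
  set K := Subgroup.closure ({h, x * C.w} : Set (O Q)) with hK
  have hhK : h ∈ K := Subgroup.subset_closure (by simp)
  have hbK : x * C.w ∈ K := Subgroup.subset_closure (by simp)
  have hxmem : x ∈ commutator (O Q) := CfsgLib.POmega.eich_mem_commutator hQ hn C.sing
    (C.perp_zero_polar hzperp 0)
  have hstep := C.steinberg_step (by omega) hhK hPall hP0 hPm (fun u hu => by
    rw [hha' u hu, hha _ (hperp_g' u hu), hha u hu, hha' _ (hperp_g u hu), ← app_mul, ← app_mul, hgg', hg'g])
    hzperp hbK
  rw [hha v hzperp] at hstep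
  set u := (ω : F) • app g v - v with hu
  have hup : C.Perp u := C.perp_sub (C.perp_smul (hperp_g v hzperp) _) hzperp
  rw [hha' u hup, one_smul] at hstep
  set y := u - app g' u with hy'
  have hyp : C.Perp y := C.perp_sub hup (hperp_g' u hup)
  have hv0 : v ≠ 0 := fun e => by rw [e, QuadraticMap.map_zero] at hQv; exact zero_ne_one hQv
  have hy0 : y ≠ 0 := by
    intro e
    have e1 : app g u = (1 : F) • u := by
      conv_lhs => rw [sub_eq_zero.1 e, ← app_mul, hgg', app_one]
      rw [one_smul]
    have e2 := hnofix u 1 hup e1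
    refine hv0 (hnofix v ((ω⁻¹ : Fˣ) : F) hzperp ?_)
    have e3 := congrArg (fun z => ((ω⁻¹ : Fˣ) : F) • z) (sub_eq_zero.1 e2)
    simpa [smul_smul] using e3
  let A : AddSubgroup ((Fin k ⊕ Fin k) ⊕ Fin 2 → F) :=
    { carrier := {z | C.Perp z ∧ eich Q (C.P 0) z ∈ K}
      zero_mem' := ⟨fun j => polar_zero_left Q _, by rw [CfsgLib.POmega.eich_zero_right C.sing]; exact K.one_mem⟩
      add_mem' := fun {z z'} (ha : C.Perp z ∧ _) (hb : C.Perp z' ∧ _) => ⟨C.perp_add ha.1 hb.1, by
        rw [← eich_add C.sing (C.perp_zero_polar ha.1 0) (C.perp_zero_polar hb.1 0)]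
        exact mul_mem ha.2 hb.2⟩
      neg_mem' := fun {z} (ha : C.Perp z ∧ _) => ⟨fun j => by rw [polar_neg_left, ha.1 j, neg_zero], by
        rw [← CfsgLib.POmega.eich_neg_inv C.sing (C.perp_zero_polar ha.1 0)]
        exact inv_mem ha.2⟩ }
  have hA1 : ∀ z ∈ A, (ω : F) • app g z ∈ A := by
    intro z ha
    refine ⟨C.perp_smul (hperp_g z ha.1) _, ?_⟩
    have := mul_mem (mul_mem hhK ha.2) (inv_mem hhK)
    rwa [C.conj_eich hP0 hPall ha.1, hha z ha.1] at this
  have hA2 : ∀ (j : ℕ) z, z ∈ A → ((ω : F) ^ j) • app (g ^ j) z ∈ A := by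
    intro j
    induction j with
    | zero => intro z hz; simpa using hz
    | succ j ih =>
      intro z hz
      have := hA1 _ (ih z hz)
      rwa [map_smul, smul_smul, ← app_mul, ← pow_succ', ← pow_succ'] at this
  have hA3 : ∀ z ∈ A, ((ω : F) * ω) • z ∈ A := by
    intro z hz
    have := hA2 (Fintype.card F + 1) z hz
    rwa [hgpow z hz.1, pow_succ, FiniteField.pow_card] at this
  have hyA : y ∈ A := ⟨hyp, hstep⟩
  have hgA : ∀ z ∈ A, app g z ∈ A := by
    intro z hz
    have := smul_mem_of_sq_stable hω hA3 (hA1 z hz) ((ω⁻¹ : Fˣ) : F)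
    rwa [smul_smul, ← Units.val_mul, inv_mul_cancel, Units.val_one, one_smul] at this
  have hW : ∀ z, C.Perp z → eich Q (C.P 0) z ∈ K := by
    intro z hz
    obtain ⟨c1, d1, hc1⟩ := hrest y hyp
    obtain ⟨c2, d2, hc2⟩ := hrest (app g y) (hperp_g y hyp)
    obtain ⟨c, d, rfl⟩ := hrest z hz
    have hdet : c1 * d2 - c2 * d1 ≠ 0 := by
      intro h0
      by_cases hc10 : c1 = 0
      · have hd10 : d1 ≠ 0 := fun e => hy0 (by rw [hc1, hc10, e]; simp)
        have : c2 = 0 := by
          rw [hc10, zero_mul, zero_sub, neg_eq_zero] at h0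
          exact (mul_eq_zero.1 h0).resolve_right hd10
        refine hy0 (hnofix y (d2 / d1) hyp ?_)
        rw [hc2, hc1, hc10, this]
        simp [smul_smul, div_mul_cancel₀ _ hd10]
      · refine hy0 (hnofix y (c2 / c1) hyp ?_)
        rw [hc2, hc1]
        calc c2 • v + d2 • v' = (c2 / c1 * c1) • v + (c2 / c1 * d1) • v' := by
              rw [div_mul_cancel₀ _ hc10, show c2 / c1 * d1 = d2 by field_simp; linear_combination -h0]
          _ = (c2 / c1) • (c1 • v + d1 • v') := by module
    obtain ⟨s1, hs1⟩ : ∃ s, s = (c * d2 - d * c2) / (c1 * d2 - c2 * d1) := ⟨_, rfl⟩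
    obtain ⟨s2, hs2⟩ : ∃ s, s = (d * c1 - c * d1) / (c1 * d2 - c2 * d1) := ⟨_, rfl⟩
    have := A.add_mem (smul_mem_of_sq_stable hω hA3 hyA s1)
      (smul_mem_of_sq_stable hω hA3 (hgA y hyA) s2)
    rw [hc2, hc1, show s1 • (c1 • v + d1 • v') + s2 • (c2 • v + d2 • v')
      = (s1 * c1 + s2 * c2) • v + (s1 * d1 + s2 * d2) • v' by module,
      show s1 * c1 + s2 * c2 = c by rw [hs1, hs2, div_mul_eq_mul_div, div_mul_eq_mul_div, ← add_div, div_eq_iff hdet]; ring,
      show s1 * d1 + s2 * d2 = d by rw [hs1, hs2, div_mul_eq_mul_div, div_mul_eq_mul_div, ← add_div, div_eq_iff hdet]; ring] at this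
    exact this.2
  have hxK : x ∈ K := hW v hzperp
  have hwK : C.w ∈ K := (K.mul_mem_cancel_left hxK).1 hbK
  refine two_gen_of_eichGroup_le hQ hn hhmem (mul_mem hxmem hwmem) ?_
  exact C.eichGroup_le hQ hwK (by omega) hW (fun j h1 h2 h3 c =>
    C.orbit_mem_of_perp hwK hW (hperp_iff v' hv'p) hzperp (by rw [hvv']; exact hβ) j h1 h2 h3 c)

end CfsgLib.TwoGen46
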