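import Cfsg.Agent.Lib.TwoGen46.OrthStep
import Cfsg.Agent.Lib.POmega.Forms

/-! Two generators of `PΩ_{2m+1}(q)`, `q` odd. -/

set_option autoImplicit false

namespace CfsgLib.TwoGen46

open QuadraticMap CfsgLib.Orth Matrix CfsgLib.POmega

variable {F : Type*} [Field F]

/-- The standard pairs of `oddQ`. -/
noncomputable def oddHyp (m : ℕ) : Hyp (oddQ m F) m where
  x i := Pi.single (.inr (.inl i)) 1
  y i := Pi.single (.inr (.inr i)) 1
  Qx i := by rw [oddQ_coe]; simp [Cfsg.quadFormOdd, Pi.single_apply]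
  Qy i := by rw [oddQ_coe]; simp [Cfsg.quadFormOdd, Pi.single_apply]
  pxx i j := by simp [polar_oddQ, Pi.single_apply]
  pyy i j := by simp [polar_oddQ, Pi.single_apply]
  pxy i j := by simp [polar_oddQ, Pi.single_apply]; grind

theorem odd_two_gen [Fintype F] (h2 : (2 : F) ≠ 0) {m : ℕ} (hm : 2 ≤ m) :
    ∃ a b : Cfsg.POmega F ⇑(oddQ m F), Subgroup.closure ({a, b} : Set _) = ⊤ := by
  classical
  set Q := oddQ m F with hQdef
  have hQ : Q.polarBilin.Nondegenerate := oddQ_nondegenerate h2 m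
  have hn : 5 ≤ Fintype.card (Unit ⊕ (Fin m ⊕ Fin m)) := by simp; omega
  set H : Hyp Q m := oddHyp m
  set z : Unit ⊕ (Fin m ⊕ Fin m) → F := Pi.single (.inl ()) 1 with hz
  have hQz : Q z = 1 := by rw [hQdef, oddQ_coe]; simp [Cfsg.quadFormOdd, hz]
  have hzp : ∀ i : Fin m, polar Q z (H.x i) = 0 ∧ polar Q z (H.y i) = 0 := fun i => by
    constructor <;> simp [hQdef, H, oddHyp, polar_oddQ, hz, Pi.single_apply]
  obtain ⟨C, κ, hκ, hwmem, hx, hy, hper, hwv⟩ := H.exists_cycle hQ hn (n := m) (by omega) le_rfl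
    (z := z) (by rw [hQz]; exact one_ne_zero) (fun i _ => hzp i)
  have hrest : ∀ v, C.Perp v → ∃ t : F, v = t • z := by
    intro v hv
    refine ⟨v (.inl ()), funext fun j => ?_⟩
    rcases j with u | i | i
    · simp [hz]
    · have := hv ((m : ℤ) + ((i.val : ℕ) : ℤ))
      rw [hy i.val i.isLt, polar_smul_right] at this
      simp [hκ, hQdef, H, oddHyp, polar_oddQ, Pi.single_apply] at this
      simpa [hz] using this
    · have := hv ((i.val : ℕ) : ℤ)
      rw [hx i.val i.isLt] at this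
      simp [hQdef, H, oddHyp, polar_oddQ, Pi.single_apply] at this
      simpa [hz] using this
  have hzperp : C.Perp z := C.perp_of_window (by omega) fun e => by
    by_cases he : e.val < m
    · rw [hx e.val he]; exact (hzp _).1
    · have := hy (e.val - m) (by omega)
      rw [show (m : ℤ) + ((e.val - m : ℕ) : ℤ) = (e.val : ℤ) by omega] at this
      rw [this, polar_smul_right, (hzp _).2, smul_zero]
  -- the torus
  obtain ⟨ω, hω⟩ := IsCyclic.exists_generator (α := Fˣ)
  have hω1 : (ω : F) - 1 ≠ 0 := by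
    intro h
    have h1 : ω = 1 := Units.ext (by simpa [sub_eq_zero] using h)
    obtain ⟨i, hi⟩ := Subgroup.mem_zpowers_iff.1 (hω (-1))
    rw [h1, _root_.one_zpow] at hi
    have := congrArg (fun u : Fˣ => (u : F)) hi
    simp only [Units.val_one, Units.val_neg] at this
    exact h2 (by linear_combination this)
  set i0 : Fin m := ⟨0, by omega⟩
  set il : Fin m := ⟨m - 1, by omega⟩
  have hne : i0 ≠ il := fun e => by simp [i0, il, Fin.ext_iff] at e; omega
  set d : Fin m → Fˣ := Pi.mulSingle i0 ω * Pi.mulSingle il ω⁻¹ with hd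
  have hd0 : d i0 = ω := by
    rw [hd, Pi.mul_apply, Pi.mulSingle_eq_same, Pi.mulSingle_eq_of_ne hne, mul_one]
  have hdl : d il = ω⁻¹ := by
    rw [hd, Pi.mul_apply, Pi.mulSingle_eq_same, Pi.mulSingle_eq_of_ne (Ne.symm hne), one_mul]
  set h := H.lev (Hyp.diagGL d) with hh
  have hhmem : h ∈ commutator (O Q) := H.tor_mem hQ hn d (by
    rw [hd]
    simp only [Pi.mul_apply, Finset.prod_mul_distrib, Finset.prod_pi_mulSingle', Finset.mem_univ, if_true,
      mul_inv_cancel])
  have hP0 : app h (C.P 0) = (ω : F) • C.P 0 := by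
    rw [show C.P 0 = H.x i0 from hx 0 (by omega), hh, H.tor_x, hd0]
  have hPm : app h (C.P (-1)) = (ω : F) • C.P (-1) := by
    have e := hper (-1)
    rw [show (-1 : ℤ) + 2 * m = (m : ℤ) + ((m - 1 : ℕ) : ℤ) by omega, hy (m - 1) (by omega)] at e
    rw [← e, map_smul, hh, H.tor_y, hdl, inv_inv, smul_comm]
    rfl
  have hfix : ∀ a, C.Perp a → app h a = a := fun a ha => by
    obtain ⟨t, rfl⟩ := hrest a ha
    rw [map_smul, hh, H.lev_rest _ ((H.rest_iff z).2 hzp)]
  have hwz : app C.w z = -z := by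
    rw [hwv z (fun i _ => hzp i), app_refl_self (by rw [hQz]; exact one_ne_zero)]
  have hwinv : app C.w⁻¹ z = -z := app_injective C.w (by rw [app_app_inv, map_neg, hwz, neg_neg])
  have hgfix : ∀ a, C.Perp a → app (C.w * h * C.w⁻¹) a = a := fun a ha => by
    obtain ⟨t, rfl⟩ := hrest a ha
    rw [map_smul, app_mul, app_mul, hwinv, map_neg, hfix z hzperp, map_neg, hwz, neg_neg]
  have hPall : ∀ k, ∃ μ : F, app h (C.P k) = μ • C.P k := fun k =>
    C.forall_of_window (p := fun v => ∃ μ : F, app h v = μ • v) (by omega) hper (fun e he => by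
      by_cases hem : e < m
      · exact ⟨_, by rw [hx e hem, hh, H.tor_x]⟩
      · have := hy (e - m) (by omega)
        rw [show (m : ℤ) + ((e - m : ℕ) : ℤ) = (e : ℤ) by omega] at this
        exact ⟨(((d ⟨e - m, by omega⟩)⁻¹ : Fˣ) : F), by rw [this, map_smul, hh, H.tor_y, smul_comm]; rfl⟩) k
  set x := eich Q (C.P 0) z
  set K := Subgroup.closure ({h, x * C.w} : Set (O Q)) with hK
  have hhK : h ∈ K := Subgroup.subset_closure (by simp)
  have hbK : x * C.w ∈ K := Subgroup.subset_closure (by simp)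
  have hxmem : x ∈ commutator (O Q) := CfsgLib.POmega.eich_mem_commutator hQ hn C.sing
    (C.perp_zero_polar hzperp 0)
  have hstep := C.steinberg_step (by omega) hhK hPall hP0 hPm
    (fun a ha => by rw [hgfix a ha, hfix a ha, hgfix a ha]) hzperp hbK
  rw [hfix z hzperp, hgfix _ (C.perp_sub (C.perp_smul hzperp _) hzperp)] at hstep
  have he : ((ω : F) • z - z) - (ω : F) • ((ω : F) • z - z) = (-(((ω : F) - 1) * ((ω : F) - 1))) • z := by
    module
  rw [he] at hstep
  let A : AddSubgroup (Unit ⊕ (Fin m ⊕ Fin m) → F) :=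
    { carrier := {a | C.Perp a ∧ eich Q (C.P 0) a ∈ K}
      zero_mem' := ⟨fun k => polar_zero_left Q _, by rw [CfsgLib.POmega.eich_zero_right C.sing]; exact K.one_mem⟩
      add_mem' := fun {a b} (ha : C.Perp a ∧ _) (hb : C.Perp b ∧ _) => ⟨C.perp_add ha.1 hb.1, by
        rw [← eich_add C.sing (C.perp_zero_polar ha.1 0) (C.perp_zero_polar hb.1 0)]
        exact mul_mem ha.2 hb.2⟩
      neg_mem' := fun {a} (ha : C.Perp a ∧ _) => ⟨fun k => by rw [polar_neg_left, ha.1 k, neg_zero], by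
        rw [← CfsgLib.POmega.eich_neg_inv C.sing (C.perp_zero_polar ha.1 0)]
        exact inv_mem ha.2⟩ }
  have hA1 : ∀ a ∈ A, (ω : F) • a ∈ A := by
    intro a ha
    refine ⟨C.perp_smul ha.1 _, ?_⟩
    have := mul_mem (mul_mem hhK ha.2) (inv_mem hhK)
    rwa [C.conj_eich hP0 hPall ha.1, hfix a ha.1] at this
  have hW : ∀ a, C.Perp a → eich Q (C.P 0) a ∈ K := by
    intro a ha
    obtain ⟨t, rfl⟩ := hrest a ha
    have h0 : (-(((ω : F) - 1) * ((ω : F) - 1))) • z ∈ A := ⟨C.perp_smul hzperp _, hstep⟩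
    have := smul_mem_of_sq_stable hω (fun b hb => by rw [mul_smul]; exact hA1 _ (hA1 b hb)) h0
      (t / -(((ω : F) - 1) * ((ω : F) - 1)))
    rw [smul_smul, div_mul_cancel₀ _ (neg_ne_zero.2 (mul_ne_zero hω1 hω1))] at this
    exact this.2
  have hxK : x ∈ K := hW z hzperp
  have hwK : C.w ∈ K := (K.mul_mem_cancel_left hxK).1 hbK
  refine two_gen_of_eichGroup_le hQ hn hhmem (mul_mem hxmem hwmem) ?_
  exact C.eichGroup_le hQ hwK (by omega) hW (fun d h1 h2' h3 c =>
    C.orbit_mem_of_perp hwK hW hzperp hzperp (by rw [polar_self', hQz, mul_one]; exact h2) d h1 h2' h3 c)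

end CfsgLib.TwoGen46
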