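import Cfsg.Agent.Lib.TwoGen46.OrthStep
import Cfsg.Agent.Lib.POmega.Forms

/-! Two generators of `PΩ⁺_{2m}(q)`. -/

set_option autoImplicit false

namespace CfsgLib.TwoGen46

open QuadraticMap CfsgLib.Orth Matrix CfsgLib.POmega

variable {ι : Type} [Fintype ι] [DecidableEq ι] {F : Type*} [Field F]
  {Q : QuadraticForm F (ι → F)}

theorem eich_smul_swap {u v : ι → F} (hu : Q u = 0) (hv : Q v = 0) (huv : polar Q u v = 0) (c : F) :
    eich Q u (c • v) = eich Q v ((-c) • u) :=
  ext_app fun x => by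
    rw [app_eich hu (by rw [polar_smul_right, huv, smul_zero]),
      app_eich hv (by rw [polar_smul_right, polar_comm, huv, smul_zero])]
    simp only [QuadraticMap.map_smul, hu, hv, smul_zero, polar_smul_right, smul_eq_mul, zero_mul, sub_zero]
    module

namespace Cycle

variable {n : ℕ} (C : Cycle Q n) {K : Subgroup (O Q)}

/-- The scalars `c` with `E(P 0, c P d)` in `K`. -/
def Has (K : Subgroup (O Q)) (d : ℤ) (c : F) : Prop := eich Q (C.P 0) (c • C.P d) ∈ K

theorem has_add {d : ℤ} (hd : polar Q (C.P 0) (C.P d) = 0) {c c' : F} (h : C.Has K d c)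
    (h' : C.Has K d c') : C.Has K d (c + c') := by
  have h2 := mul_mem h h'
  rwa [eich_add C.sing (by rw [polar_smul_right, hd, smul_zero]) (by rw [polar_smul_right, hd, smul_zero]),
    ← add_smul] at h2

theorem has_neg {d : ℤ} (hd : polar Q (C.P 0) (C.P d) = 0) {c : F} (h : C.Has K d c) :
    C.Has K d (-c) := by
  have h2 := inv_mem h
  rwa [CfsgLib.POmega.eich_neg_inv C.sing (by rw [polar_smul_right, hd, smul_zero]), ← neg_smul] at h2

theorem has_zero (d : ℤ) : C.Has K d 0 := by
  rw [Has, zero_smul, CfsgLib.POmega.eich_zero_right C.sing]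
  exact K.one_mem

theorem has_flip (hw : C.w ∈ K) {d : ℤ} (hd : polar Q (C.P 0) (C.P d) = 0) {c : F} (h : C.Has K d c) :
    C.Has K (-d) (-c) := by
  rw [Has, eich_smul_swap C.sing (C.Q_P d) hd] at h
  have h2 := C.eich_shift hw (k := d) (by rw [polar_smul_right, polar_comm, hd, smul_zero]) h (-d)
  rwa [add_neg_cancel, map_smul, C.zpow_act, zero_add] at h2

theorem has_comm (hw : C.w ∈ K) (hn : 0 < n) {d d' : ℤ} (hd : 0 < d) (hdn : d < 2 * (n : ℤ)) (hd1 : d ≠ n)
    (hd' : 0 < d') (hdn' : d' < 2 * (n : ℤ)) (hd1' : d' ≠ n) (hne : d ≠ d')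
    (hne1 : d - d' ≠ (n : ℤ)) (hne2 : d' - d ≠ (n : ℤ)) {c c' : F}
    (h : C.Has K d c) (h' : C.Has K d' c') :
    C.Has K (d - d' + n) (-(c * c' * polar Q (C.P d) (C.P (d + n)))) := by
  obtain ⟨s, hs, hper⟩ := C.per_shift
  have z0 : ∀ {i : ℤ}, 0 < i → i < 2 * (n : ℤ) → i ≠ n → polar Q (C.P 0) (C.P i) = 0 := fun a b c =>
    C.polar_zero (by omega) b c (by omega)
  have e0 : polar Q (C.P 0) (C.P (d - d' + n)) = 0 := by
    rcases lt_or_ge (-2 * (n : ℤ)) (d - d' + n) with h1 | h1
    · rcases lt_or_ge (d - d' + n) (2 * (n : ℤ)) with h2 | h2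
      · exact C.polar_zero h1 h2 (by omega) (by omega)
      · rw [show d - d' + (n : ℤ) = (d - d' - n) + 2 * (n : ℤ) by ring, hper, polar_smul_right,
          C.polar_zero (by omega) (by omega) (by omega) (by omega), smul_zero]
    · omega
  have z : ∀ (i : ℤ), polar Q (C.P 0) (C.P i) = 0 → ∀ e, polar Q (C.P e) (C.P (e + i)) = 0 := by
    intro i hi e
    have := C.polar_shift 0 i e
    rw [zero_add, add_comm i e] at this
    rw [this, hi]
  have e1 : polar Q (C.P (d - d' + n)) (C.P (d + n)) = 0 := by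
    have := z d' (z0 hd' hdn' hd1') (d - d' + n)
    rwa [show d - d' + (n : ℤ) + d' = d + n by ring] at this
  have e2 : polar Q (C.P 0) (C.P (d + n)) = 0 := by
    rcases lt_or_ge (d + n) (2 * (n : ℤ)) with h2 | h2
    · exact z0 (by omega) h2 (by omega)
    · rw [show d + (n : ℤ) = (d - n) + 2 * (n : ℤ) by ring, hper, polar_smul_right,
        C.polar_zero (by omega) (by omega) (by omega) (by omega), smul_zero]
  have e3 : polar Q (C.P (d - d' + n)) (C.P d) = 0 := by
    rw [polar_comm]
    rcases lt_or_ge (d - d' + n) (d + 2 * (n : ℤ)) with h2 | h2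
    · exact C.polar_eq_zero (by omega) h2 (by omega) (by omega)
    · omega
  have hf : eich Q (C.P (d - d' + n)) (c' • C.P (d + n)) ∈ K := by
    have := C.eich_shift hw (by rw [polar_smul_right, z0 hd' hdn' hd1', smul_zero]) h' (d - d' + n)
    rwa [zero_add, map_smul, C.zpow_act, show d' + (d - d' + n) = d + n by ring] at this
  have := eich_mem_of_mixed (C.Q_P (d - d' + n)) C.sing e0 (by rw [polar_smul_right, e1, smul_zero])
    (by rw [polar_smul_right, e2, smul_zero]) (by rw [polar_smul_right, z0 hd hdn hd1, smul_zero])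
    (by rw [polar_smul_right, e3, smul_zero]) hf h
  rw [polar_smul_left, polar_smul_right, smul_eq_mul, smul_eq_mul] at this
  rw [Has, mul_assoc]
  exact this

end Cycle

/-- The standard pairs of `plusQ`. -/
noncomputable def plusHyp (m : ℕ) : Hyp (plusQ m F) m where
  x i := Pi.single (.inl i) 1
  y i := Pi.single (.inr i) 1
  Qx i := by rw [plusQ_coe]; simp [Cfsg.quadFormPlus, Pi.single_apply]
  Qy i := by rw [plusQ_coe]; simp [Cfsg.quadFormPlus, Pi.single_apply]
  pxx i j := by simp [polar_plusQ, Pi.single_apply]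
  pyy i j := by simp [polar_plusQ, Pi.single_apply]
  pxy i j := by simp [polar_plusQ, Pi.single_apply]; grind

theorem tv_mulVec_single {r : ℕ} {i j : Fin r} (hij : i ≠ j) (c : F) (l : Fin r) (a : F) :
    (SpecialLinearGroup.transvection hij c).1 *ᵥ Pi.single l a =
      Pi.single l a + (if l = j then c * a else 0) • Pi.single i 1 := by
  funext k
  rw [SpecialLinearGroup.transvection_coe, add_mulVec, one_mulVec, single_mulVec]
  by_cases hl : l = j
  · subst hl; by_cases hk : k = i <;> simp [hk, hij]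
  · by_cases hk : k = i <;> simp [hk, hl, Ne.symm hl]

theorem tv_transpose_mulVec_single {r : ℕ} {i j : Fin r} (hij : i ≠ j) (c : F) (l : Fin r) (a : F) :
    ((SpecialLinearGroup.transvection hij c).1)ᵀ *ᵥ Pi.single l a =
      Pi.single l a + (if l = i then c * a else 0) • Pi.single j 1 := by
  funext k
  rw [SpecialLinearGroup.transvection_coe, transpose_add, transpose_one, transpose_single, add_mulVec,
    one_mulVec, single_mulVec]
  by_cases hl : l = i
  · subst hl; by_cases hk : k = j <;> simp [hk, Ne.symm hij]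
  · by_cases hk : k = j <;> simp [hk, hl, Ne.symm hl]

theorem sl_val_mul {r : ℕ} (A B : SpecialLinearGroup (Fin r) F) : (A * B).1 = A.1 * B.1 := rfl

theorem sl_val_pow {r : ℕ} (A : SpecialLinearGroup (Fin r) F) (N : ℕ) : (A ^ N).1 = A.1 ^ N :=
  Matrix.SpecialLinearGroup.coe_pow A N

/-- An element of `SL₂` in the coordinates `i, j`, of order prime to `p`, mixing both. -/
theorem exists_mix {r : ℕ} {i j : Fin r} (hij : i ≠ j) :
    ∃ (A : SpecialLinearGroup (Fin r) F) (N : ℕ) (α β α' β' : F), (N : F) ≠ 0 ∧ A ^ N = 1 ∧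
      β ≠ 0 ∧ β' ≠ 0 ∧
      (∀ l, l ≠ i → l ≠ j → A.1 *ᵥ Pi.single l 1 = Pi.single l 1 ∧ A.1ᵀ *ᵥ Pi.single l 1 = Pi.single l 1) ∧
      A.1 *ᵥ Pi.single i 1 = Pi.single i α + Pi.single j β ∧
      A.1ᵀ *ᵥ (Pi.single i α' + Pi.single j β') = Pi.single i 1 := by
  classical
  have key : ∀ (A : SpecialLinearGroup (Fin r) F) (N : ℕ),
      (∀ l, (A.1 ^ N) *ᵥ Pi.single l 1 = Pi.single l 1) → A ^ N = 1 := fun A N h => by
    apply Subtype.ext
    rw [sl_val_pow]
    exact Matrix.ext_of_mulVec_single fun l => by rw [h]; exact (one_mulVec _).symm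
  by_cases h2 : (2 : F) = 0
  · set A := SpecialLinearGroup.transvection hij (1 : F) *
      SpecialLinearGroup.transvection hij.symm (1 : F) with hA
    have a1 : A.1 *ᵥ Pi.single i 1 = Pi.single j 1 := by
      rw [hA, sl_val_mul, ← mulVec_mulVec, tv_mulVec_single, if_pos rfl, one_mul, one_smul,
        mulVec_add, tv_mulVec_single, tv_mulVec_single, if_neg hij, if_pos rfl, zero_smul, add_zero,
        one_mul, one_smul]
      have hs1 : Pi.single i (1 : F) + Pi.single i 1 = (0 : Fin r → F) := by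
        rw [← two_smul F (Pi.single i (1 : F) : Fin r → F), h2, zero_smul]
      linear_combination (norm := module) hs1
    have a2 : A.1 *ᵥ Pi.single j 1 = Pi.single i 1 + Pi.single j 1 := by
      rw [hA, sl_val_mul, ← mulVec_mulVec, tv_mulVec_single, if_neg hij.symm, zero_smul,
        add_zero, tv_mulVec_single, if_pos rfl, one_mul, one_smul, add_comm]
    have a3 : ∀ l, l ≠ i → l ≠ j → A.1 *ᵥ Pi.single l 1 = Pi.single l 1 := fun l h1 h3 => by
      rw [hA, sl_val_mul, ← mulVec_mulVec, tv_mulVec_single, if_neg h1, zero_smul,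
        add_zero, tv_mulVec_single, if_neg h3, zero_smul, add_zero]
    have hs : ∀ v : Fin r → F, v + v = 0 := fun v => by rw [← two_smul F v, h2, zero_smul]
    refine ⟨A, 3, 0, 1, 1, 1, ?_, key A 3 fun l => ?_, one_ne_zero, one_ne_zero,
      fun l h1 h3 => ⟨a3 l h1 h3, ?_⟩, by rw [a1, Pi.single_zero, zero_add], ?_⟩
    · rw [show ((3 : ℕ) : F) = 2 + 1 by norm_num, h2, zero_add]; exact one_ne_zero
    · rw [pow_succ, pow_two, ← mulVec_mulVec, ← mulVec_mulVec]
      by_cases h1 : l = i
      · rw [h1, a1, a2, mulVec_add, a1, a2, add_left_comm, hs, add_zero]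
      · by_cases h3 : l = j
        · rw [h3, a2, mulVec_add, a1, a2, mulVec_add, mulVec_add, a2, a1]
          linear_combination (norm := module) hs (Pi.single i (1 : F) + Pi.single j 1)
        · rw [a3 l h1 h3, a3 l h1 h3, a3 l h1 h3]
    · rw [hA, sl_val_mul, transpose_mul, ← mulVec_mulVec, tv_transpose_mulVec_single,
        if_neg h1, zero_smul, add_zero, tv_transpose_mulVec_single, if_neg h3, zero_smul, add_zero]
    · rw [hA, sl_val_mul, transpose_mul, ← mulVec_mulVec, mulVec_add,
        tv_transpose_mulVec_single, tv_transpose_mulVec_single, if_pos rfl, if_neg hij.symm, zero_smul,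
        add_zero, one_mul, one_smul, add_assoc, hs, add_zero, tv_transpose_mulVec_single, if_neg hij,
        zero_smul, add_zero]
  · set A := SpecialLinearGroup.transvection hij (1 : F) *
      SpecialLinearGroup.transvection hij.symm (-1 : F) * SpecialLinearGroup.transvection hij (1 : F) with hA
    have a1 : A.1 *ᵥ Pi.single i 1 = -Pi.single j 1 := by
      rw [hA, sl_val_mul, sl_val_mul, ← mulVec_mulVec, ← mulVec_mulVec]
      simp [tv_mulVec_single, -mulVec_single_one, -mulVec_single, -mulVec_mulVec, mulVec_add, mulVec_neg, hij, hij.symm]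
    have a2 : A.1 *ᵥ Pi.single j 1 = Pi.single i 1 := by
      rw [hA, sl_val_mul, sl_val_mul, ← mulVec_mulVec, ← mulVec_mulVec]
      simp [tv_mulVec_single, -mulVec_single_one, -mulVec_single, -mulVec_mulVec, mulVec_add, mulVec_neg, hij, hij.symm]
    have a3 : ∀ l, l ≠ i → l ≠ j → A.1 *ᵥ Pi.single l 1 = Pi.single l 1 := fun l h1 h3 => by
      rw [hA, sl_val_mul, sl_val_mul, ← mulVec_mulVec, ← mulVec_mulVec]
      simp [tv_mulVec_single, -mulVec_single_one, -mulVec_single, -mulVec_mulVec, h1, h3]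
    refine ⟨A, 4, 0, -1, 0, -1, ?_, key A 4 fun l => ?_, neg_ne_zero.2 one_ne_zero,
      neg_ne_zero.2 one_ne_zero, fun l h1 h3 => ⟨a3 l h1 h3, ?_⟩, by simp [a1, Pi.single_neg], ?_⟩
    · rw [show ((4 : ℕ) : F) = 2 * 2 by norm_num]; exact mul_ne_zero h2 h2
    · rw [pow_succ, pow_succ, pow_two, ← mulVec_mulVec, ← mulVec_mulVec, ← mulVec_mulVec]
      by_cases h1 : l = i
      · rw [h1, a1, mulVec_neg, a2, mulVec_neg, a1, neg_neg, a2]
      · by_cases h3 : l = j
        · rw [h3, a2, a1, mulVec_neg, a2, mulVec_neg, a1, neg_neg]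
        · rw [a3 l h1 h3, a3 l h1 h3, a3 l h1 h3, a3 l h1 h3]
    · rw [hA, sl_val_mul, sl_val_mul, transpose_mul, transpose_mul,
        ← mulVec_mulVec, ← mulVec_mulVec]
      simp [tv_transpose_mulVec_single, -mulVec_single_one, -mulVec_single, -mulVec_mulVec, h1, h3]
    · rw [hA, sl_val_mul, sl_val_mul, transpose_mul, transpose_mul,
        ← mulVec_mulVec, ← mulVec_mulVec]
      simp [tv_transpose_mulVec_single, -mulVec_single_one, -mulVec_single, -mulVec_mulVec, mulVec_add, mulVec_neg, hij, hij.symm, Pi.single_neg]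

theorem plus_two_gen [Fintype F] {m : ℕ} (hm : 4 ≤ m) :
    ∃ a b : Cfsg.POmega F ⇑(plusQ m F), Subgroup.closure ({a, b} : Set _) = ⊤ := by
  classical
  set Q := plusQ m F with hQdef
  have hQ : Q.polarBilin.Nondegenerate := plusQ_nondegenerate m
  have hn : 5 ≤ Fintype.card (Fin m ⊕ Fin m) := by simp; omega
  set H : Hyp Q m := plusHyp m
  set n := m - 1 with hndef
  have hn3 : 3 ≤ n := by omega
  set i0 : Fin m := ⟨0, by omega⟩ with hi0
  set i1 : Fin m := ⟨1, by omega⟩ with hi1
  set i2 : Fin m := ⟨2, by omega⟩ with hi2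
  set il : Fin m := ⟨n, by omega⟩ with hil
  have h01 : i0 ≠ i1 := fun e => by simp [hi0, hi1, Fin.ext_iff] at e
  have h02 : i0 ≠ i2 := fun e => by simp [hi0, hi2, Fin.ext_iff] at e
  have h12 : i1 ≠ i2 := fun e => by simp [hi1, hi2, Fin.ext_iff] at e
  have h0l : i0 ≠ il := fun e => by simp [hi0, hil, Fin.ext_iff] at e; omega
  have h1l : i1 ≠ il := fun e => by simp [hi1, hil, Fin.ext_iff] at e; omega
  have h2l : i2 ≠ il := fun e => by simp [hi2, hil, Fin.ext_iff] at e; omega
  set z : Fin m ⊕ Fin m → F := H.x il + H.y il with hz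
  have hQz : Q z = 1 := by rw [hz, QuadraticMap.map_add ⇑Q, H.Qx, H.Qy, H.pxy, if_pos rfl]; ring
  have hzp : ∀ i : Fin m, i.val < n → polar Q z (H.x i) = 0 ∧ polar Q z (H.y i) = 0 := fun i hi => by
    have : il ≠ i := fun e => by rw [← e, hil] at hi; exact lt_irrefl _ hi
    constructor <;> simp [hz, polar_add_left, H.pxx, H.pyy, H.pxy, H.pyx, this]
  obtain ⟨C, κ, hκ, hwmem, hx, hy, hper, -⟩ := H.exists_cycle hQ hn (n := n) (by omega) (by omega)
    (z := z) (by rw [hQz]; exact one_ne_zero) hzp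
  -- the element of order prime to `p`
  obtain ⟨ω, hω⟩ := IsCyclic.exists_generator (α := Fˣ)
  obtain ⟨A, N, α, β, α', β', hN, hAN, hβ, hβ', hAfix, hAx, hAy⟩ := exists_mix (F := F) h2l
  set d : Fin m → Fˣ := Pi.mulSingle i0 ω * Pi.mulSingle i1 ω with hd
  set D := Hyp.diagGL d with hD
  set a' := SpecialLinearGroup.toGL A with ha'
  set h := H.lev D * H.lev a' with hh
  have hd0 : d i0 = ω := by simp [hd, h01]
  have hd1 : d i1 = ω := by simp [hd, h01.symm]
  have hdj : ∀ l, l ≠ i0 → l ≠ i1 → d l = 1 := fun l a b => by simp [hd, a, b]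
  have hAval : ((a' : GL (Fin m) F) : Matrix (Fin m) (Fin m) F) = A.1 := rfl
  have Ax : ∀ l, l ≠ i2 → l ≠ il → app (H.lev a') (H.x l) = H.x l := fun l a b => by
    rw [H.lev_x, hAval, (hAfix l a b).1, H.X_single, one_smul]
  have Ay : ∀ l, l ≠ i2 → l ≠ il → app (H.lev a') (H.y l) = H.y l := fun l a b => by
    rw [H.lev_y _ l (u := Pi.single l 1) (by rw [hAval]; exact (hAfix l a b).2), H.Y_single, one_smul]
  have hDA : D * a' = a' * D := by
    refine Units.ext (Matrix.ext_of_mulVec_single fun l => ?_)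
    simp only [Units.val_mul, ← mulVec_mulVec]
    have hDv : ∀ (k : Fin m) (c : F), (D : Matrix (Fin m) (Fin m) F) *ᵥ Pi.single k c =
        Pi.single k ((d k : F) * c) := fun k c => Matrix.diagonal_mulVec_single _ _ _
    rw [hAval, hDv l 1, mul_one]
    have hsm : (Pi.single l ((d l : Fˣ) : F) : Fin m → F) = ((d l : Fˣ) : F) • Pi.single l 1 := by
      rw [← Pi.single_smul, smul_eq_mul, mul_one]
    rw [hsm, mulVec_smul]
    by_cases hl : l = i0 ∨ l = i1
    · have h2' : l ≠ i2 ∧ l ≠ il := by rcases hl with rfl | rfl <;> simp [h02, h0l, h12, h1l]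
      rw [(hAfix l h2'.1 h2'.2).1, hDv, mul_one, hsm]
    · push Not at hl
      rw [hdj l hl.1 hl.2, Units.val_one, one_smul]
      have hfix : ∀ k, k ≠ i0 → k ≠ i1 → ∀ c : F, (D : Matrix (Fin m) (Fin m) F) *ᵥ Pi.single k c =
          Pi.single k c := fun k a b c => by rw [hDv, hdj k a b, Units.val_one, one_mul]
      by_cases ha : l = i2
      · rw [ha, hAx, mulVec_add, hfix _ h02.symm h12.symm, hfix _ h0l.symm h1l.symm]
      · by_cases hb : l = il
        · have hgen : ∀ v : Fin m → F, v i0 = 0 → v i1 = 0 →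
              (D : Matrix (Fin m) (Fin m) F) *ᵥ v = v := fun v a b => funext fun k => by
            show (Matrix.diagonal _ *ᵥ v) k = _
            rw [mulVec_diagonal]
            by_cases c : k = i0
            · rw [c, a, mul_zero]
            · by_cases c' : k = i1
              · rw [c', b, mul_zero]
              · rw [hdj k c c', Units.val_one, one_mul]
          refine hgen _ ?_ ?_
          · have e := congrFun (hAfix i0 h02 h0l).2 l
            simpa [mulVec_single, Pi.single_apply, hl.1] using e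
          · have e := congrFun (hAfix i1 h12 h1l).2 l
            simpa [mulVec_single, Pi.single_apply, hl.2] using e
        · rw [(hAfix l ha hb).1, hfix _ hl.1 hl.2]
  have hx0 : app h (H.x i0) = (ω : F) • H.x i0 := by
    rw [hh, app_mul, Ax i0 h02 h0l, hD, H.tor_x, hd0]
  have hx1 : app h (H.x i1) = (ω : F) • H.x i1 := by
    rw [hh, app_mul, Ax i1 h12 h1l, hD, H.tor_x, hd1]
  have hy1 : app h (H.y i1) = ((ω⁻¹ : Fˣ) : F) • H.y i1 := by
    rw [hh, app_mul, Ay i1 h12 h1l, hD, H.tor_y, hd1, Units.smul_def]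
  have hx2 : app h (H.x i2) = α • H.x i2 + β • H.x il := by
    rw [hh, app_mul, H.lev_x, hAval, hAx, map_add, H.X_single, H.X_single, map_add, map_smul, map_smul,
      hD, H.tor_x, H.tor_x, hdj _ h02.symm h12.symm, hdj _ h0l.symm h1l.symm, Units.val_one, one_smul,
      one_smul]
  have hy2 : app h (H.y i2) = α' • H.y i2 + β' • H.y il := by
    rw [hh, app_mul, H.lev_y _ i2 (u := Pi.single i2 α' + Pi.single il β') (by rw [hAval]; exact hAy),
      map_add, H.Y_single, H.Y_single, map_add, map_smul, map_smul, hD, H.tor_y, H.tor_y,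
      hdj _ h02.symm h12.symm, hdj _ h0l.symm h1l.symm, inv_one, one_smul, one_smul]
  have hhmem : h ∈ commutator (O Q) := by
    rw [hh, hD, hd, show (Pi.mulSingle i0 ω * Pi.mulSingle i1 ω : Fin m → Fˣ)
      = Pi.mulSingle i0 (ω * ω) * (Pi.mulSingle i0 ω⁻¹ * Pi.mulSingle i1 ω) by
        rw [← mul_assoc, ← Pi.mulSingle_mul, mul_inv_cancel_right], ← Hyp.diagGL_mul, map_mul]
    refine mul_mem (mul_mem (H.tor_single_sq_mem hQ hn i0 ω) (H.tor_mem hQ hn _ ?_)) (H.lev_mem hQ hn A)
    simp only [Pi.mul_apply, Finset.prod_mul_distrib, Finset.prod_pi_mulSingle', Finset.mem_univ, if_true,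
      inv_mul_cancel]
  set M := N * (Fintype.card F - 1) with hM
  have hM0 : (M : F) ≠ 0 := by
    rw [hM, Nat.cast_mul, Nat.cast_sub Fintype.card_pos, FiniteField.cast_card_eq_zero, Nat.cast_one,
      zero_sub]
    exact mul_ne_zero hN (neg_ne_zero.2 one_ne_zero)
  have hhM : h ^ M = 1 := by
    have hdpow : d ^ (Fintype.card F - 1) = 1 := funext fun l => by
      rw [Pi.pow_apply, ← Fintype.card_units, pow_card_eq_one, Pi.one_apply]
    have hone : Hyp.diagGL (1 : Fin m → Fˣ) = 1 := by simpa using (Hyp.diagGL_pow d 0).symm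
    rw [hh, ← map_mul, ← map_pow, Commute.mul_pow hDA, hM, mul_comm N, pow_mul, hD, Hyp.diagGL_pow,
      hdpow, hone, one_pow, one_mul,
      mul_comm (Fintype.card F - 1), pow_mul, ha', ← map_pow, hAN, map_one, one_pow, map_one]
  -- the root element
  have hP1 : C.P ((n : ℤ) + 1) = κ • H.y i1 := by
    have := hy 1 (by omega)
    rw [Nat.cast_one] at this
    rw [this]
  have hP0 : C.P 0 = H.x i0 := hx 0 (by omega)
  have hP1' : C.P 1 = H.x i1 := by have := hx 1 (by omega); simpa using this
  have hperpt : polar Q (C.P 0) (C.P ((n : ℤ) + 1)) = 0 :=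
    C.polar_zero (by omega) (by omega) (by omega) (by omega)
  set t := eich Q (C.P 0) (C.P ((n : ℤ) + 1)) with ht
  have hth : h * t = t * h := by
    have e : h * t * h⁻¹ = t := by
      rw [ht, eich_conj C.sing hperpt, hP0, hP1, hx0, map_smul, hy1,
        CfsgLib.POmega.eich_smul (H.Qx _) (by rw [polar_smul_right, polar_smul_right, H.pxy, if_neg h01]; simp)]
      congr 1
      rw [smul_smul, smul_smul, mul_comm (ω : F) κ, mul_assoc, ← Units.val_mul, mul_inv_cancel,
        Units.val_one, mul_one]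
    exact mul_inv_eq_iff_eq_mul.1 e
  have htmem : t ∈ commutator (O Q) := CfsgLib.POmega.eich_mem_commutator hQ hn C.sing hperpt
  have htpow : ∀ k : ℕ, t ^ k = eich Q (C.P 0) ((k : F) • C.P ((n : ℤ) + 1)) := by
    intro k
    induction k with
    | zero => rw [pow_zero, Nat.cast_zero, zero_smul, CfsgLib.POmega.eich_zero_right C.sing]
    | succ k ih =>
      rw [pow_succ, ih, ht, eich_add C.sing (by rw [polar_smul_right, hperpt, smul_zero]) hperpt,
        Nat.cast_succ, add_smul, one_smul]
  set K := Subgroup.closure ({t * h, C.w} : Set (O Q)) with hK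
  have haK : t * h ∈ K := Subgroup.subset_closure (by simp)
  have hwK : C.w ∈ K := Subgroup.subset_closure (by simp)
  have htK : t ∈ K := by
    have := pow_mem haK (M * M ^ (Fintype.card F - 2))
    have hth' : Commute t h := hth.symm
    rw [hth'.mul_pow, htpow, pow_mul, hhM, one_pow, mul_one,
      Nat.cast_mul, Nat.cast_pow, ← pow_succ',
      show Fintype.card F - 2 + 1 = Fintype.card F - 1 by have := Fintype.one_lt_card (α := F); omega,
      FiniteField.pow_card_sub_one_eq_one _ hM0, one_smul] at this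
    exact this
  have hhK : h ∈ K := (K.mul_mem_cancel_left htK).1 haK
  -- all root elements
  have zp : ∀ {i : ℤ}, 0 < i → i < 2 * (n : ℤ) → i ≠ n → polar Q (C.P 0) (C.P i) = 0 := fun a b c =>
    C.polar_zero (by omega) b c (by omega)
  let IsU : ℤ → Prop := fun d => ∃ c : F, c ≠ 0 ∧ C.Has K d c
  let Full : ℤ → Prop := fun d => ∀ c : F, C.Has K d c
  have hflip : ∀ {e : ℤ}, 0 < e → e < 2 * (n : ℤ) → e ≠ n → ∀ c, C.Has K e c →
      C.Has K (2 * (n : ℤ) - e) (-c) := fun {e} a b c' c hc => by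
    have h2 := C.has_flip hwK (zp a b c') hc
    rw [Cycle.Has] at h2 ⊢
    rwa [show 2 * (n : ℤ) - e = -e + 2 * (n : ℤ) by ring, hper]
  have hcomm : ∀ {d d' : ℤ}, 0 < d → d < 2 * (n : ℤ) → d ≠ n → 0 < d' → d' < 2 * (n : ℤ) → d' ≠ n →
      d' < d → d - d' < n → ∀ {c c' : F}, C.Has K d c → C.Has K d' c' →
      C.Has K (d - d' + n) (-(c * c' * polar Q (C.P d) (C.P (d + n)))) :=
    fun a b c a' b' c' l1 l2 => C.has_comm hwK (by omega) a b c a' b' c' (by omega) (by omega) (by omega)
  have hu1 : IsU ((n : ℤ) + 1) := ⟨1, one_ne_zero, by rw [Cycle.Has, one_smul]; exact htK⟩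
  have hneg1 : ∀ {e : ℤ}, 0 < e → e < 2 * (n : ℤ) → e ≠ n → IsU e → IsU (2 * (n : ℤ) - e) :=
    fun a b c ⟨x, hx, hh⟩ => ⟨-x, neg_ne_zero.2 hx, hflip a b c x hh⟩
  have hunits : ∀ s : ℕ, 1 ≤ s → s < n → IsU ((n : ℤ) + s) := by
    intro s
    induction s with
    | zero => omega
    | succ s ih =>
      intro _ hs
      rcases Nat.eq_zero_or_pos s with rfl | hs0
      · simpa using hu1
      obtain ⟨c, hc, hc'⟩ := ih (by omega) (by omega)
      obtain ⟨e, he, he'⟩ := hneg1 (by omega) (by omega) (by omega) hu1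
      refine ⟨_, neg_ne_zero.2 (mul_ne_zero (mul_ne_zero hc he) (C.polar_ne ((n : ℤ) + s))), ?_⟩
      have := hcomm (by omega) (by omega) (by omega) (by omega) (by omega) (by omega) (by omega) (by omega)
        hc' he'
      rwa [show (n : ℤ) + s - (2 * (n : ℤ) - ((n : ℤ) + 1)) + n = (n : ℤ) + (s + 1 : ℕ) by push_cast; ring]
        at this
  have hfull1 : Full 1 := by
    obtain ⟨c, hc, hc'⟩ := hneg1 (e := (n : ℤ) + ((n - 1 : ℕ) : ℤ)) (by omega) (by omega) (by omega)
      (hunits (n - 1) (by omega) (by omega))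
    rw [show 2 * (n : ℤ) - ((n : ℤ) + ((n - 1 : ℕ) : ℤ)) = 1 by omega] at hc'
    have h1 : polar Q (C.P 0) (C.P 1) = 0 := zp (by omega) (by omega) (by omega)
    let S : AddSubgroup F :=
      { carrier := {c | C.Has K 1 c}
        zero_mem' := show C.Has K 1 0 from C.has_zero 1
        add_mem' := fun {a b} (ha : C.Has K 1 a) (hb : C.Has K 1 b) =>
          show C.Has K 1 (a + b) from C.has_add h1 ha hb
        neg_mem' := fun {a} (ha : C.Has K 1 a) => show C.Has K 1 (-a) from C.has_neg h1 ha }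
    intro x
    have := smul_mem_of_sq_stable (A := S) hω (fun e (he : C.Has K 1 e) => by
      show C.Has K 1 ((ω : F) * ω * e)
      have h2 := mul_mem (mul_mem hhK he) (inv_mem hhK)
      rw [eich_conj C.sing (by rw [polar_smul_right, h1, smul_zero]), map_smul, hP0, hP1', hx0, hx1,
        CfsgLib.POmega.eich_smul (H.Qx _) (by rw [polar_smul_right, polar_smul_right, H.pxx]; simp),
        smul_smul, smul_smul] at h2
      rw [Cycle.Has, hP0, hP1']
      convert h2 using 3
      ring) (show c ∈ S from hc') (x / c)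
    rwa [smul_eq_mul, div_mul_cancel₀ _ hc] at this
  have hplus : Full ((n : ℤ) + 1) := by
    obtain ⟨c, hc, hc'⟩ := hneg1 (e := (n : ℤ) + ((n - 2 : ℕ) : ℤ)) (by omega) (by omega) (by omega)
      (hunits (n - 2) (by omega) (by omega))
    rw [show 2 * (n : ℤ) - ((n : ℤ) + ((n - 2 : ℕ) : ℤ)) = 2 by omega] at hc'
    intro x
    have := hcomm (d := 2) (d' := 1) (by omega) (by omega) (by omega) (by omega) (by omega) (by omega)
      (by omega) (by omega) hc' (hfull1 (-x / (c * polar Q (C.P 2) (C.P (2 + n)))))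
    have hp2 := C.polar_ne 2
    rw [show (2 : ℤ) - 1 + n = n + 1 by ring] at this
    convert this using 1
    field_simp
  have hminus : Full (2 * (n : ℤ) - ((n : ℤ) + 1)) := fun x => by
    have := hflip (by omega) (by omega) (by omega) _ (hplus (-x))
    rwa [neg_neg] at this
  have hfull : ∀ s : ℕ, 1 ≤ s → s < n → Full ((n : ℤ) + s) := by
    intro s
    induction s with
    | zero => omega
    | succ s ih =>
      intro _ hs
      rcases Nat.eq_zero_or_pos s with rfl | hs0
      · simpa using hplus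
      intro x
      have := hcomm (d := (n : ℤ) + s) (d' := 2 * (n : ℤ) - ((n : ℤ) + 1)) (by omega) (by omega) (by omega)
        (by omega) (by omega) (by omega) (by omega) (by omega) (ih (by omega) (by omega) 1)
        (hminus (-x / polar Q (C.P ((n : ℤ) + s)) (C.P ((n : ℤ) + s + n))))
      rw [show (n : ℤ) + s - (2 * (n : ℤ) - ((n : ℤ) + 1)) + n = (n : ℤ) + (s + 1 : ℕ) by push_cast; ring,
        one_mul, div_mul_cancel₀ _ (C.polar_ne _), neg_neg] at this
      exact this
  have hP : ∀ e : ℕ, 0 < e → e < 2 * n → e ≠ n → ∀ c : F, eich Q (C.P 0) (c • C.P e) ∈ K := by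
    intro e he he2 hen c
    rcases lt_or_gt_of_ne hen with hlt | hgt
    · have := hflip (by omega) (by omega) (by omega) _ (hfull (n - e) (by omega) (by omega) (-c))
      rwa [neg_neg, show 2 * (n : ℤ) - ((n : ℤ) + ((n - e : ℕ) : ℤ)) = (e : ℤ) by omega] at this
    · have := hfull (e - n) (by omega) (by omega) c
      rwa [show (n : ℤ) + ((e - n : ℕ) : ℤ) = (e : ℤ) by omega] at this
  have hP2 : C.P ((2 : ℕ) : ℤ) = H.x i2 := hx 2 (by omega)
  have hP2' : C.P (((n + 2 : ℕ)) : ℤ) = κ • H.y i2 := by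
    rw [Nat.cast_add]; exact hy 2 (by omega)
  have hxl : ∀ s : F, eich Q (C.P 0) (s • H.x il) ∈ K := by
    intro s
    set c := s / ((ω : F) * β)
    have h2 := mul_mem (mul_mem hhK (hP 2 (by omega) (by omega) (by omega) c)) (inv_mem hhK)
    have hp : polar Q (H.x i0) (c • H.x i2) = 0 := by rw [polar_smul_right, H.pxx, smul_zero]
    rw [hP2, hP0, eich_conj (H.Qx _) hp, map_smul, hx0, hx2,
      CfsgLib.POmega.eich_smul (H.Qx _) (by simp [polar_smul_right, polar_add_right, H.pxx]),
      show (ω : F) • c • (α • H.x i2 + β • H.x il)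
        = ((ω : F) * c * α) • H.x i2 + ((ω : F) * c * β) • H.x il by module,
      show (ω : F) * c * β = s by simp only [c]; field_simp,
      ← eich_add (H.Qx _) (by simp [polar_smul_right, H.pxx]) (by simp [polar_smul_right, H.pxx])] at h2
    rw [hP0]
    refine (K.mul_mem_cancel_left ?_).1 h2
    have := hP 2 (by omega) (by omega) (by omega) ((ω : F) * c * α)
    rwa [hP2, hP0] at this
  have hyl : ∀ s : F, eich Q (C.P 0) (s • H.y il) ∈ K := by
    intro s
    set c := s / ((ω : F) * κ * β')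
    have h2 := mul_mem (mul_mem hhK (hP (n + 2) (by omega) (by omega) (by omega) c)) (inv_mem hhK)
    have hp : polar Q (H.x i0) (c • κ • H.y i2) = 0 := by
      simp [polar_smul_right, H.pxy, h02]
    rw [hP2', hP0, eich_conj (H.Qx _) hp, map_smul, map_smul, hx0, hy2,
      CfsgLib.POmega.eich_smul (H.Qx _) (by simp [polar_smul_right, polar_add_right, H.pxy, h02, h0l]),
      show (ω : F) • c • κ • (α' • H.y i2 + β' • H.y il)
        = ((ω : F) * c * α') • κ • H.y i2 + ((ω : F) * c * κ * β') • H.y il by module,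
      show (ω : F) * c * κ * β' = s by simp only [c]; field_simp,
      ← eich_add (H.Qx _) (by simp [polar_smul_right, H.pxy, h02]) (by simp [polar_smul_right, H.pxy, h0l])]
      at h2
    rw [hP0]
    refine (K.mul_mem_cancel_left ?_).1 h2
    have := hP (n + 2) (by omega) (by omega) (by omega) ((ω : F) * c * α')
    rwa [hP2', hP0] at this
  have hW : ∀ v, C.Perp v → eich Q (C.P 0) v ∈ K := by
    intro v hv
    have e : v = v (.inl il) • H.x il + v (.inr il) • H.y il := by
      funext j
      rcases j with i | i <;> by_cases hi : i = il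
      · subst hi; simp [H, plusHyp]
      · have := hv ((n : ℤ) + ((i.val : ℕ) : ℤ))
        have hlt : i.val < n := by have := Fin.val_ne_iff.2 hi; simp [hil] at this; omega
        rw [hy i.val hlt, polar_smul_right] at this
        simp [hκ, hQdef, H, plusHyp, polar_plusQ, Pi.single_apply] at this
        simp [H, plusHyp, hi, this]
      · subst hi; simp [H, plusHyp]
      · have := hv ((i.val : ℕ) : ℤ)
        have hlt : i.val < n := by have := Fin.val_ne_iff.2 hi; simp [hil] at this; omega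
        rw [hx i.val hlt] at this
        simp [hQdef, H, plusHyp, polar_plusQ, Pi.single_apply] at this
        simp [H, plusHyp, hi, this]
    rw [e, hP0, ← eich_add (H.Qx _) (by simp [polar_smul_right, H.pxx])
      (by simp [polar_smul_right, H.pxy, h0l])]
    have h1 := hxl (v (.inl il)); have h2 := hyl (v (.inr il))
    rw [hP0] at h1 h2
    exact mul_mem h1 h2
  exact two_gen_of_eichGroup_le hQ hn (mul_mem htmem hhmem) hwmem
    (C.eichGroup_le hQ hwK (by omega) hW hP)

end CfsgLib.TwoGen46
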