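import Cfsg.Agent.Lib.TwoGen46.Hyp
import Cfsg.Agent.Lib.RegUnip.SpElem

/-!
The long cycle in a frame, Steinberg's commutator of `h` and `(x w) h (x w)⁻¹`, and passage to `PΩ`.
-/

set_option autoImplicit false

namespace CfsgLib.TwoGen46

open QuadraticMap CfsgLib.Orth Matrix

variable {ι : Type} [Fintype ι] [DecidableEq ι] {F : Type*} [Field F]
  {Q : QuadraticForm F (ι → F)}

namespace Hyp

variable {r : ℕ} (H : Hyp Q r) [Fintype F] (hQ : Q.polarBilin.Nondegenerate)
  (hn : 5 ≤ Fintype.card ι)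
include hQ hn

/-- The cycle on the first `n` pairs, with a reflection in `z` off these pairs. -/
theorem exists_cycle {n : ℕ} (hn0 : 0 < n) (hnr : n ≤ r) {z : ι → F} (hz : Q z ≠ 0)
    (hzp : ∀ i : Fin r, i.val < n → polar Q z (H.x i) = 0 ∧ polar Q z (H.y i) = 0) :
    ∃ (C : Cycle Q n) (κ : F), κ ≠ 0 ∧ C.w ∈ commutator (O Q) ∧
      (∀ (i : ℕ) (h : i < n), C.P (i : ℤ) = H.x ⟨i, by omega⟩) ∧
      (∀ (i : ℕ) (h : i < n), C.P ((n : ℤ) + (i : ℤ)) = κ • H.y ⟨i, by omega⟩) ∧
      (∀ k : ℤ, C.P (k + 2 * (n : ℤ)) = C.P k) ∧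
      ∀ v, (∀ i : Fin r, i.val < n → polar Q v (H.x i) = 0 ∧ polar Q v (H.y i) = 0) →
        app C.w v = app (refl Q z) v := by
  classical
  have : NeZero r := ⟨by omega⟩
  set last : Fin r := ⟨n - 1, by omega⟩ with hlast
  set σ : Equiv.Perm (Fin r) := Fin.cycleRange last with hσ
  obtain ⟨A, s, hss, hA, hAt⟩ := exists_mono (F := F) σ last
  have hs0 : s ≠ 0 := fun h => by simp [h] at hss
  set c : F := -Q z with hc
  have hc0 : c ≠ 0 := neg_ne_zero.2 hz
  set L := H.lev (SpecialLinearGroup.toGL A) with hL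
  set w : O Q := L * (H.flip last c * refl Q z) with hw
  have hAval : ((SpecialLinearGroup.toGL A : GL (Fin r) F) : Matrix (Fin r) (Fin r) F) = A.1 := rfl
  have Lx : ∀ j, app L (H.x j) = (if j = last then s else 1) • H.x (σ j) := fun j => by
    rw [hL, H.lev_x, hAval, hA, H.X_single]
  have Ly : ∀ j, app L (H.y j) = (if j = last then s else 1) • H.y (σ j) := fun j => by
    rw [hL, H.lev_y _ j (u := Pi.single (σ j) (if j = last then s else 1)) (by rw [hAval]; exact hAt j),
      H.Y_single]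
  have wfix : ∀ v, polar Q v (H.x last) = 0 → polar Q v (H.y last) = 0 →
      polar Q v z = 0 → app w v = app L v := fun v h1 h2 h3 => by
    rw [hw, app_mul, app_mul, app_refl_of_ortho h3, H.flip_fix last c h1 h2]
  have hp := fun (j : Fin r) (hj : j.val < n) => hzp j hj
  have wx : ∀ j : Fin r, j.val < n - 1 → app w (H.x j) = H.x (σ j) := fun j hj => by
    have hne : j ≠ last := fun e => by rw [e, hlast] at hj; exact lt_irrefl _ hj
    rw [wfix _ (H.pxx j last) (by rw [H.pxy, if_neg hne]) (by rw [polar_comm]; exact (hp j (by omega)).1),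
      Lx, if_neg hne, one_smul]
  have wy : ∀ j : Fin r, j.val < n - 1 → app w (H.y j) = H.y (σ j) := fun j hj => by
    have hne : j ≠ last := fun e => by rw [e, hlast] at hj; exact lt_irrefl _ hj
    rw [wfix _ (by rw [H.pyx, if_neg hne]) (H.pyy j last) (by rw [polar_comm]; exact (hp j (by omega)).2),
      Ly, if_neg hne, one_smul]
  have hl : last.val < n := by rw [hlast]; simp only; omega
  have wxl : app w (H.x last) = (c * s) • H.y (σ last) := by
    rw [hw, app_mul, app_mul, app_refl_of_ortho (by rw [polar_comm]; exact (hp last hl).1),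
      H.flip_x _ hc0, map_smul, Ly, if_pos rfl, smul_smul]
  have wyl : app w (H.y last) = (c⁻¹ * s) • H.x (σ last) := by
    rw [hw, app_mul, app_mul, app_refl_of_ortho (by rw [polar_comm]; exact (hp last hl).2),
      H.flip_y _ hc0, map_smul, Lx, if_pos rfl, smul_smul]
  have hσ0 : σ last = 0 := Fin.cycleRange_of_eq rfl
  have hσs : ∀ (i : ℕ) (h : i + 1 < n), σ ⟨i, by omega⟩ = ⟨i + 1, by omega⟩ := fun i h =>
    Fin.ext (Fin.coe_cycleRange_of_lt (by rw [hlast]; show i < n - 1; omega))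
  -- the orbit
  set P : ℤ → ι → F := fun k => app (w ^ k) (H.x 0) with hP
  have hact : ∀ k, app w (P k) = P (k + 1) := fun k => by
    rw [hP]; simp only
    rw [← app_mul, ← _root_.zpow_one_add, add_comm]
  have hx : ∀ (i : ℕ) (h : i < n), P (i : ℤ) = H.x ⟨i, by omega⟩ := by
    intro i
    induction i with
    | zero =>
      intro h
      simp only [hP, Nat.cast_zero, zpow_zero, app_one]
      rfl
    | succ i ih =>
      intro h
      rw [Nat.cast_succ, ← hact, ih (by omega), wx _ (by show i < n - 1; omega), hσs i h]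
  have hy : ∀ (i : ℕ) (h : i < n), P ((n : ℤ) + (i : ℤ)) = (c * s) • H.y ⟨i, by omega⟩ := by
    intro i
    induction i with
    | zero =>
      intro h
      rw [Nat.cast_zero, add_zero, show (n : ℤ) = ((n - 1 : ℕ) : ℤ) + 1 by omega, ← hact,
        hx (n - 1) (by omega)]
      show app w (H.x last) = _
      rw [wxl, hσ0]
      rfl
    | succ i ih =>
      intro h
      rw [Nat.cast_succ, ← add_assoc, ← hact, ih (by omega), map_smul, wy _ (by show i < n - 1; omega),
        hσs i h]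
  have hper : P (2 * (n : ℤ)) = P 0 := by
    rw [show (2 : ℤ) * n = n + ((n - 1 : ℕ) : ℤ) + 1 by omega, ← hact, hy (n - 1) (by omega), map_smul]
    show (c * s) • app w (H.y last) = _
    rw [wyl, smul_smul, show c * s * (c⁻¹ * s) = 1 by field_simp; linear_combination hss, one_smul, hσ0,
      hP]
    simp
  have hwmem : w ∈ commutator (O Q) := mul_mem (H.lev_mem hQ hn A)
    (refl_pair_mem hQ (by rw [H.Q_flipVec, hc, neg_neg]; exact hz) (by rw [H.Q_flipVec, hc, neg_neg]))
  refine ⟨{ w := w, P := P, act := hact, sing := ?_, orth := ?_, top := ?_,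
            per := ⟨1, one_ne_zero, by rw [one_smul]; push_cast; exact hper⟩ },
    c * s, mul_ne_zero hc0 hs0, hwmem, hx, hy, fun k => ?_, fun v hv => ?_⟩
  · simp [hP, H.Qx]
  · intro d hd hdn
    rw [hx d hdn, show P 0 = H.x ⟨0, by omega⟩ from hx 0 hn0]
    exact H.pxx _ _
  · have e := hy 0 hn0
    rw [Nat.cast_zero, add_zero] at e
    rw [e, show P 0 = H.x ⟨0, by omega⟩ from hx 0 hn0, polar_smul_right, H.pxy, if_pos rfl,
      smul_eq_mul, mul_one]
    exact mul_ne_zero hc0 hs0
  · show P (k + 2 * (n : ℤ)) = P k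
    have := congrArg (app (w ^ k)) hper
    simp only [hP] at this ⊢
    rwa [← app_mul, ← _root_.zpow_add, zpow_zero, app_one] at this
  · have hzv : ∀ i : Fin r, i.val < n → polar Q (app (refl Q z) v) (H.x i) = 0 ∧
        polar Q (app (refl Q z) v) (H.y i) = 0 := fun i hi => by
      simp [app_refl, polar_sub_left, polar_smul_left, (hv i hi).1, (hv i hi).2, (hzp i hi).1, (hzp i hi).2]
    show app (L * (H.flip last c * refl Q z)) v = _
    rw [app_mul, app_mul, H.flip_fix last c (hzv last hl).1 (hzv last hl).2]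
    set u := app (refl Q z) v
    have hAu : A.1 *ᵥ H.cx u = H.cx u ∧ A.1ᵀ *ᵥ H.cy u = H.cy u := by
      have hfix : ∀ j : Fin r, n ≤ j.val → σ j = j ∧ j ≠ last := fun j hj =>
        ⟨Fin.cycleRange_of_gt (by rw [hlast]; show n - 1 < j.val; omega),
          fun e => by rw [e, hlast] at hj; simp only at hj; omega⟩
      have key : ∀ (B : Matrix (Fin r) (Fin r) F) (c : Fin r → F),
          (∀ j, B *ᵥ Pi.single j (c j) = Pi.single j (c j)) → B *ᵥ c = c := fun B c h => by
        calc B *ᵥ c = B *ᵥ ∑ j, Pi.single j (c j) := by rw [Finset.univ_sum_single]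
          _ = ∑ j, Pi.single j (c j) := by rw [mulVec_sum]; exact Finset.sum_congr rfl fun j _ => h j
          _ = c := Finset.univ_sum_single c
      have key' : ∀ (B : Matrix (Fin r) (Fin r) F) (j : Fin r) (a : F),
          B *ᵥ Pi.single j 1 = Pi.single j 1 → B *ᵥ Pi.single j a = Pi.single j a := fun B j a h => by
        rw [show (Pi.single j a : Fin r → F) = a • Pi.single j 1 by
          rw [← Pi.single_smul, smul_eq_mul, mul_one], mulVec_smul, h]
      refine ⟨key _ _ fun j => ?_, key _ _ fun j => ?_⟩ <;> by_cases hj : j.val < n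
      · rw [H.cx_apply, polar_comm, (hzv j hj).2, Pi.single_zero, mulVec_zero]
      · obtain ⟨e1, e2⟩ := hfix j (by omega)
        have h0 := hA j
        rw [e1, if_neg e2] at h0
        exact key' _ j _ h0
      · rw [H.cy_apply, polar_comm, (hzv j hj).1, Pi.single_zero, mulVec_zero]
      · obtain ⟨e1, e2⟩ := hfix j (by omega)
        have h0 := hAt j
        rw [e1, if_neg e2] at h0
        exact key' _ j _ h0
    rw [hL, H.app_lev, H.levMap_apply, sub_mulVec, one_mulVec, hAval, hAu.1, sub_self, map_zero, add_zero]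
    have : (((SpecialLinearGroup.toGL A)⁻¹ : GL (Fin r) F) : Matrix (Fin r) (Fin r) F)ᵀ *ᵥ H.cy u
        = H.cy u := by
      conv_lhs => rw [← hAu.2, ← hAval, mulVec_mulVec, ← Matrix.transpose_mul, Units.mul_inv,
        Matrix.transpose_one, one_mulVec]
    rw [sub_mulVec, one_mulVec, this, sub_self, map_zero, add_zero]

end Hyp

namespace Cycle

variable {n : ℕ} (C : Cycle Q n) {K : Subgroup (O Q)}

theorem perp_app {h : O Q} (hP : ∀ k, ∃ μ : F, app h (C.P k) = μ • C.P k) {a : ι → F}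
    (ha : C.Perp a) : C.Perp (app h a) := fun k => by
  obtain ⟨μ, hμ⟩ := hP k
  have hne : μ ≠ 0 := fun h0 => by
    rw [h0, zero_smul] at hμ
    have h1 : C.P k = 0 := app_injective h (by rw [hμ, map_zero])
    exact C.polar_ne k (by rw [h1, polar_zero_left])
  have := ha k
  rw [← polar_app h, hμ, polar_smul_right, smul_eq_mul, mul_eq_zero] at this
  exact this.resolve_left hne

theorem perp_smul {a : ι → F} (ha : C.Perp a) (t : F) : C.Perp (t • a) := fun k => by
  rw [polar_smul_left, ha k, smul_zero]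

theorem perp_add {a b : ι → F} (ha : C.Perp a) (hb : C.Perp b) : C.Perp (a + b) := fun k => by
  rw [polar_add_left, ha k, hb k, add_zero]

theorem perp_sub {a b : ι → F} (ha : C.Perp a) (hb : C.Perp b) : C.Perp (a - b) := fun k => by
  rw [polar_sub_left, ha k, hb k, sub_zero]

theorem perp_zero_polar {a : ι → F} (ha : C.Perp a) (k : ℤ) : polar Q (C.P k) a = 0 := by
  rw [polar_comm]; exact ha k

theorem forall_of_window (hn : 0 < n) (hper : ∀ k : ℤ, C.P (k + 2 * (n : ℤ)) = C.P k)
    {p : (ι → F) → Prop} (h : ∀ e : ℕ, e < 2 * n → p (C.P (e : ℤ))) (k : ℤ) : p (C.P k) := by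
  have hmul : ∀ s : ℤ, ∀ k, C.P (k + s * (2 * (n : ℤ))) = C.P k := by
    intro s
    induction s using Int.induction_on with
    | zero => simp
    | succ i ih =>
      intro k
      rw [show k + ((i : ℤ) + 1) * (2 * (n : ℤ)) = k + i * (2 * (n : ℤ)) + 2 * (n : ℤ) by ring, hper, ih]
    | pred i ih =>
      intro k
      rw [← hper (k + (-(i : ℤ) - 1) * (2 * (n : ℤ))),
        show k + (-(i : ℤ) - 1) * (2 * (n : ℤ)) + 2 * (n : ℤ) = k + (-(i : ℤ)) * (2 * (n : ℤ)) by ring, ih]
  have h0 := Int.emod_nonneg k (show (2 * (n : ℤ)) ≠ 0 by omega)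
  have h1 := Int.emod_lt_of_pos k (show (0 : ℤ) < 2 * (n : ℤ) by omega)
  have e := hmul (k / (2 * (n : ℤ))) (k % (2 * (n : ℤ)))
  rw [add_comm (k % (2 * (n : ℤ))), Int.ediv_mul_add_emod] at e
  rw [e, ← Int.toNat_of_nonneg h0]
  exact h _ (by omega)

theorem conj_eich {h : O Q} {μ : F} (hμ : app h (C.P 0) = μ • C.P 0)
    (hP : ∀ k, ∃ μ : F, app h (C.P k) = μ • C.P k) {a : ι → F} (ha : C.Perp a) :
    h * eich Q (C.P 0) a * h⁻¹ = eich Q (C.P 0) (μ • app h a) := by
  rw [eich_conj C.sing (C.perp_zero_polar ha 0), hμ,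
    CfsgLib.POmega.eich_smul C.sing (C.perp_zero_polar (C.perp_app hP ha) 0)]

/-- Steinberg's commutator. -/
theorem steinberg_step (hn : 0 < n) {h : O Q} (hh : h ∈ K) (hP : ∀ k, ∃ μ : F, app h (C.P k) = μ • C.P k)
    {μ ν : F} (hμ : app h (C.P 0) = μ • C.P 0) (hν : app h (C.P (-1)) = ν • C.P (-1))
    (hcomm : ∀ a, C.Perp a → app h (app (C.w * h * C.w⁻¹) a) = app (C.w * h * C.w⁻¹) (app h a))
    {z : ι → F} (hz : C.Perp z) (hb : eich Q (C.P 0) z * C.w ∈ K) :
    eich Q (C.P 0) ((μ • app h z - z) - ν • app (C.w * h * C.w⁻¹) (μ • app h z - z)) ∈ K := by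
  classical
  set g := C.w * h * C.w⁻¹ with hg
  have gP : ∀ k, ∃ a : F, app g (C.P k) = a • C.P k := fun k => by
    obtain ⟨a, ha⟩ := hP (k - 1)
    exact ⟨a, by rw [hg, app_mul, app_mul, C.inv_act, ha, map_smul, C.act, sub_add_cancel]⟩
  have g0 : app g (C.P 0) = ν • C.P 0 := by
    rw [hg, app_mul, app_mul, C.inv_act, zero_sub, hν, map_smul, C.act, neg_add_cancel]
  have hgh : h * g = g * h := ext_app fun v => by
    obtain ⟨f, a₀, ha₀, -, rfl⟩ := C.decomp hn v
    simp only [app_mul, map_add, map_sum, map_smul, hcomm a₀ ha₀]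
    congr 1
    refine Finset.sum_congr rfl fun e _ => ?_
    obtain ⟨a, ha⟩ := hP (e.val : ℤ)
    obtain ⟨b, hb'⟩ := gP (e.val : ℤ)
    simp only [ha, hb', map_smul, smul_smul, mul_comm b a]
  set x := eich Q (C.P 0) z
  set u := μ • app h z - z
  have hMz : C.Perp (μ • app h z) := C.perp_smul (C.perp_app hP hz) μ
  have hu : C.Perp u := C.perp_sub hMz hz
  have p := fun {a : ι → F} (ha : C.Perp a) => C.perp_zero_polar ha 0
  have key : h * (x * g * x⁻¹) * h⁻¹ * (x * g * x⁻¹)⁻¹ =
      (h * x * h⁻¹) * (g * ((h * x * h⁻¹)⁻¹ * x) * g⁻¹) * x⁻¹ := by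
    calc h * (x * g * x⁻¹) * h⁻¹ * (x * g * x⁻¹)⁻¹
        = (h * x * h⁻¹) * ((h * g) * h⁻¹ * ((h * x * h⁻¹)⁻¹ * x) * g⁻¹) * x⁻¹ := by group
      _ = _ := by rw [hgh]; group
  have hmem : x * g * x⁻¹ ∈ K := by
    have := mul_mem (mul_mem hb hh) (inv_mem hb)
    rwa [show x * C.w * h * (x * C.w)⁻¹ = x * g * x⁻¹ by rw [hg]; group] at this
  have h1 := mul_mem (mul_mem (mul_mem hh hmem) (inv_mem hh)) (inv_mem hmem)
  rw [key, C.conj_eich hμ hP hz, CfsgLib.POmega.eich_neg_inv C.sing (p hMz),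
    eich_add C.sing (by rw [polar_neg_right, p hMz, neg_zero]) (p hz),
    show -(μ • app h z) + z = (-1 : F) • u by rw [neg_one_smul, neg_sub]; abel] at h1
  rw [C.conj_eich g0 gP (C.perp_smul hu _), map_smul, CfsgLib.POmega.eich_neg_inv C.sing (p hz),
    eich_add C.sing (p hMz) (p (C.perp_smul (C.perp_smul (C.perp_app gP hu) _) _)),
    eich_add C.sing (by rw [polar_add_right, p hMz, p (C.perp_smul (C.perp_smul (C.perp_app gP hu) _) _),
      add_zero]) (by rw [polar_neg_right, p hz, neg_zero])] at h1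
  rwa [show μ • app h z + ν • (-1 : F) • app g u + -z = u - ν • app g u by
    rw [show μ • app h z = u + z by simp [u]]; module] at h1

end Cycle

/-- Two elements of `Ω` generating a subgroup with all Eichler transformations give two generators
of `PΩ`. -/
theorem two_gen_of_eichGroup_le [Fintype F] (hQ : Q.polarBilin.Nondegenerate) (hn : 5 ≤ Fintype.card ι)
    {a b : O Q} (ha : a ∈ commutator (O Q)) (hb : b ∈ commutator (O Q))
    (h : CfsgLib.POmega.eichGroup Q ≤ Subgroup.closure {a, b}) :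
    ∃ g g' : Cfsg.POmega F ⇑Q, Subgroup.closure ({g, g'} : Set (Cfsg.POmega F ⇑Q)) = ⊤ := by
  classical
  rw [← CfsgLib.POmega.commutator_eq_eichGroup hQ hn] at h
  have htop : Subgroup.closure ({(⟨a, ha⟩ : Cfsg.Omega F ⇑Q), ⟨b, hb⟩} : Set (Cfsg.Omega F ⇑Q)) = ⊤ := by
    refine Subgroup.map_injective (Cfsg.Omega F ⇑Q).subtype_injective ?_
    rw [MonoidHom.map_closure, Set.image_pair, ← MonoidHom.range_eq_map, Subgroup.range_subtype]
    exact le_antisymm ((Subgroup.closure_le _).2 (by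
      rintro _ (rfl | rfl)
      exacts [ha, hb])) h
  refine ⟨QuotientGroup.mk' _ ⟨a, ha⟩, QuotientGroup.mk' _ ⟨b, hb⟩, ?_⟩
  have := congrArg (Subgroup.map (QuotientGroup.mk' (Subgroup.center (Cfsg.Omega F ⇑Q)))) htop
  rwa [MonoidHom.map_closure, Set.image_pair,
    Subgroup.map_top_of_surjective _ (QuotientGroup.mk'_surjective _)] at this

/-- An additive subgroup stable under multiplication by `w²` is stable under all scalars. -/
theorem smul_mem_of_sq_stable [Fintype F] {M : Type*} [AddCommGroup M] [Module F M] {A : AddSubgroup M}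
    {w : Fˣ} (hw : ∀ x : Fˣ, x ∈ Subgroup.zpowers w)
    (hA : ∀ a ∈ A, ((w : F) * w) • a ∈ A) {a : M} (ha : a ∈ A) (t : F) : t • a ∈ A := by
  let B : AddSubgroup F :=
    { carrier := {c | c • a ∈ A}
      zero_mem' := by simp
      add_mem' := fun {c d} (hc : c • a ∈ A) (hd : d • a ∈ A) => by
        show (c + d) • a ∈ A
        rw [add_smul]; exact A.add_mem hc hd
      neg_mem' := fun {c} (hc : c • a ∈ A) => by
        show (-c) • a ∈ A
        rw [neg_smul]; exact A.neg_mem hc }
  exact CfsgLib.RegUnip.SpGen.eq_top_of_sq_stable (A := B) hw (show (1 : F) • a ∈ A by rwa [one_smul])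
    (fun c (hc : c • a ∈ A) => show ((w : F) * w * c) • a ∈ A by rw [mul_smul]; exact hA _ hc) t

end CfsgLib.TwoGen46
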