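import Cfsg.Agent.Lib.RegUnipU.Large
import Cfsg.Agent.Lib.RegUnipU.Frame

/-!
A cyclically permuted frame of a unitary space: when a subgroup of `SU` containing the cycle element
is everything.
-/

set_option autoImplicit false

namespace CfsgLib.TwoGen46

open Matrix CfsgLib.RegUnipU

variable {F : Type*} [Field F] {n q : ℕ}

namespace UHerm

variable (C : Conj F q)
include C

theorem exists_trace_one (hne : C.σ ≠ RingHom.id F) : ∃ ι : F, ι + C.σ ι = 1 := by
  obtain ⟨l, hl⟩ : ∃ l : F, l + C.σ l ≠ 0 := by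
    by_cases h2 : (2 : F) = 0
    · by_contra h
      push Not at h
      refine hne (RingHom.ext fun x => ?_)
      rw [RingHom.id_apply]
      linear_combination h x - x * h2
    · exact ⟨1, by rw [map_one, one_add_one_eq_two]; exact h2⟩
  refine ⟨l / (l + C.σ l), ?_⟩
  rw [map_div₀, map_add, C.hσ2, add_comm (C.σ l) l, ← add_div, div_self hl]

theorem exists_skew (hne : C.σ ≠ RingHom.id F) : ∃ γ : F, γ ≠ 0 ∧ C.σ γ = -γ := by
  obtain ⟨l, hl⟩ : ∃ l, C.σ l ≠ l := by
    by_contra h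
    push Not at h
    exact hne (RingHom.ext h)
  exact ⟨l - C.σ l, sub_ne_zero.2 (Ne.symm hl), C.trace_zero_sub_conj l⟩

theorem exists_height (hne : C.σ ≠ RingHom.id F) (u : Fin n → F) :
    ∃ s : F, s + C.σ s = -Cfsg.hermForm n F q u u := by
  obtain ⟨ι, hι⟩ := exists_trace_one C hne
  refine ⟨-(Cfsg.hermForm n F q u u * ι), ?_⟩
  rw [map_neg, map_mul, ← C.flip u u]
  linear_combination (-Cfsg.hermForm n F q u u) * hι

/-- `u` and `s` define a root element at the isotropic `e`. -/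
structure EiOk (e u : Fin n → F) (s : F) : Prop where
  he : Cfsg.hermForm n F q e e = 0
  hue : Cfsg.hermForm n F q u e = 0
  hs : s + C.σ s = -Cfsg.hermForm n F q u u

/-- The matrix of a root element. -/
def eiMat (e u : Fin n → F) (s : F) : Matrix (Fin n) (Fin n) F :=
  C.rankOne e e (s + Cfsg.hermForm n F q u u) * (C.rankOne e u (-1) * C.rankOne u e 1)

theorem eiMat_mulVec {e u : Fin n → F} {s : F} (h : EiOk C e u s) (x : Fin n → F) :
    eiMat C e u s *ᵥ x = x + Cfsg.hermForm n F q x e • u +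
      (s * Cfsg.hermForm n F q x e - Cfsg.hermForm n F q x u) • e := by
  simp only [eiMat, ← mulVec_mulVec, C.rankOne_mulVec, C.add_left, C.smul_left, h.he, h.hue,
    C.flip_zero h.hue, mul_zero, add_zero, one_mul]
  module

theorem eiMat_mem {e u : Fin n → F} {s : F} (h : EiOk C e u s) :
    (⟨eiMat C e u s, by
      rw [eiMat, det_mul, det_mul, C.det_rankOne, C.det_rankOne, C.det_rankOne, h.he, h.hue,
        C.flip_zero h.hue]; simp⟩ : Matrix.SpecialLinearGroup (Fin n) F) ∈ Cfsg.SU n F q := by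
  intro x y
  show Cfsg.hermForm n F q (eiMat C e u s *ᵥ x) (eiMat C e u s *ᵥ y) = _
  simp only [eiMat_mulVec C h, C.add_left, C.add_right, C.smul_left, C.smul_right, h.he, h.hue,
    C.flip_zero h.hue, map_sub, map_mul, ← C.flip y e, ← C.flip y u]
  linear_combination (Cfsg.hermForm n F q x e * Cfsg.hermForm n F q e y) * h.hs

open Classical in
/-- The root element `x ↦ x + h(x,e) u + (s h(x,e) - h(x,u)) e`. -/
noncomputable def ei (e u : Fin n → F) (s : F) : ↥(Cfsg.SU n F q) :=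
  if h : EiOk C e u s then ⟨_, eiMat_mem C h⟩ else 1

theorem ei_mulVec {e u : Fin n → F} {s : F} (h : EiOk C e u s) (x : Fin n → F) :
    mat (ei C e u s) *ᵥ x = x + Cfsg.hermForm n F q x e • u +
      (s * Cfsg.hermForm n F q x e - Cfsg.hermForm n F q x u) • e := by
  rw [ei, dif_pos h]
  exact eiMat_mulVec C h x

theorem eiOk_add {e u u' : Fin n → F} {s s' : F} (h : EiOk C e u s) (h' : EiOk C e u' s') :
    EiOk C e (u + u') (s + s' - Cfsg.hermForm n F q u' u) := by
  refine ⟨h.he, by rw [C.add_left, h.hue, h'.hue, add_zero], ?_⟩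
  rw [C.add_left, C.add_right, C.add_right, map_sub, map_add, ← C.flip u' u]
  linear_combination h.hs + h'.hs

theorem ei_mul {e u u' : Fin n → F} {s s' : F} (h : EiOk C e u s) (h' : EiOk C e u' s') :
    ei C e u s * ei C e u' s' = ei C e (u + u') (s + s' - Cfsg.hermForm n F q u' u) := by
  refine su_ext fun x => ?_
  rw [mulVec_mul, ei_mulVec C h', ei_mulVec C h, ei_mulVec C (eiOk_add C h h')]
  simp only [C.add_left, C.add_right, C.smul_left, h.he, h'.hue, C.flip_zero h.hue]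
  module

theorem eiOk_conj (g : ↥(Cfsg.SU n F q)) {e u : Fin n → F} {s : F} (h : EiOk C e u s) :
    EiOk C (mat g *ᵥ e) (mat g *ᵥ u) s :=
  ⟨by rw [form_mulVec, h.he], by rw [form_mulVec, h.hue], by rw [form_mulVec, h.hs]⟩

theorem conj_ei (g : ↥(Cfsg.SU n F q)) {e u : Fin n → F} {s : F} (h : EiOk C e u s) :
    g * ei C e u s * g⁻¹ = ei C (mat g *ᵥ e) (mat g *ᵥ u) s := by
  refine su_ext fun x => ?_
  obtain ⟨z, rfl⟩ : ∃ z, mat g *ᵥ z = x := ⟨mat g⁻¹ *ᵥ x, by rw [← mulVec_mul, mul_inv_cancel, one_act]⟩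
  rw [mulVec_mul, mulVec_mul, inv_fix rfl, ei_mulVec C h, ei_mulVec C (eiOk_conj C g h), form_mulVec,
    form_mulVec, mulVec_add, mulVec_add, mulVec_smul, mulVec_smul]

theorem eiOk_smul {e u : Fin n → F} {s : F} (t : F) (h : EiOk C (t • e) u s) (ht : t ≠ 0) :
    EiOk C e (C.σ t • u) (s * (t * C.σ t)) := by
  have htσ : C.σ t ≠ 0 := (map_ne_zero C.σ).2 ht
  refine ⟨?_, ?_, ?_⟩
  · have := h.he
    rw [C.smul_left, C.smul_right] at this
    simpa [ht, htσ] using this
  · have := h.hue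
    rw [C.smul_right] at this
    rw [C.smul_left]
    simpa [htσ] using this
  · rw [map_mul, C.norm_fixed, C.smul_left, C.smul_right, C.hσ2]
    linear_combination (t * C.σ t) * h.hs

theorem ei_smul {e u : Fin n → F} {s : F} (t : F) (h : EiOk C (t • e) u s) (ht : t ≠ 0) :
    ei C (t • e) u s = ei C e (C.σ t • u) (s * (t * C.σ t)) := by
  refine su_ext fun x => ?_
  rw [ei_mulVec C h, ei_mulVec C (eiOk_smul C t h ht), C.smul_right, C.smul_right, C.hσ2]
  module

theorem eiOk_zero {e : Fin n → F} (he : Cfsg.hermForm n F q e e = 0) {s : F} (hs : C.σ s = -s) :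
    EiOk C e 0 s :=
  ⟨he, C.zero_left e, by rw [hs, add_neg_cancel, C.zero_left, neg_zero]⟩

theorem ei_zero {e : Fin n → F} (he : Cfsg.hermForm n F q e e = 0) {s : F} (hs : C.σ s = -s) :
    ei C e 0 s = C.tm e s := by
  refine su_ext fun x => ?_
  rw [ei_mulVec C (eiOk_zero C he hs), C.tm_mulVec he hs, C.zero_right]
  module

theorem eiOk_rt {e y : Fin n → F} (h : Conj.Orth2 (q := q) e y) (b : F) : EiOk C e (b • y) 0 :=
  ⟨h.hx, by rw [C.smul_left, C.flip_zero h.hxy, mul_zero],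
    by rw [map_zero, add_zero, C.smul_left, C.smul_right, h.hy]; simp⟩

theorem ei_rt {e y : Fin n → F} (h : Conj.Orth2 (q := q) e y) (b : F) :
    ei C e (b • y) 0 = C.rt e y b := by
  refine su_ext fun x => ?_
  rw [ei_mulVec C (eiOk_rt C h b), C.rt_mulVec h, C.smul_right]
  module

theorem sum_left {κ : Type*} (s : Finset κ) (u : κ → Fin n → F) (v : Fin n → F) :
    Cfsg.hermForm n F q (∑ i ∈ s, u i) v = ∑ i ∈ s, Cfsg.hermForm n F q (u i) v := by
  classical
  induction s using Finset.induction_on with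
  | empty => simp [C.zero_left]
  | insert a s ha ih => rw [Finset.sum_insert ha, Finset.sum_insert ha, C.add_left, ih]

end UHerm

open UHerm

/-- An element `w` of `SU` with an orbit `P k`, antiperiodic with period `2r`, in which `P k` is
paired with `P (k + r)` only, the vectors orthogonal to the orbit being multiples of a fixed
vector `z` fixed by `w`. -/
structure UCycle (C : Conj F q) (n r : ℕ) where
  w : ↥(Cfsg.SU n F q)
  P : ℤ → Fin n → F
  z : Fin n → F
  act : ∀ k, mat w *ᵥ P k = P (k + 1)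
  per : ∀ k, P (k + 2 * (r : ℤ)) = -P k
  iso : Cfsg.hermForm n F q (P 0) (P 0) = 0
  orth : ∀ d : ℕ, 0 < d → d < r → Cfsg.hermForm n F q (P 0) (P d) = 0
  top : Cfsg.hermForm n F q (P 0) (P r) ≠ 0
  zfix : mat w *ᵥ z = z
  zperp : ∀ k, Cfsg.hermForm n F q z (P k) = 0
  span : ∀ v, (∀ k, Cfsg.hermForm n F q v (P k) = 0) → ∃ c : F, v = c • z
  ziso : ∀ c : F, Cfsg.hermForm n F q (c • z) (c • z) = 0 → c • z = 0

namespace UCycle

variable {C : Conj F q} {r : ℕ} (Y : UCycle C n r)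

theorem inv_act (j : ℤ) : mat Y.w⁻¹ *ᵥ Y.P j = Y.P (j - 1) :=
  inv_fix ((Y.act (j - 1)).trans (by rw [sub_add_cancel]))

theorem zpow_act (s j : ℤ) : mat (Y.w ^ s) *ᵥ Y.P j = Y.P (j + s) := by
  induction s using Int.induction_on generalizing j with
  | zero => rw [zpow_zero, one_act, add_zero]
  | succ i ih => rw [_root_.zpow_add_one, mulVec_mul, Y.act, ih]; ring_nf
  | pred i ih => rw [_root_.zpow_sub_one, mulVec_mul, inv_act, ih]; ring_nf

theorem zpow_z (s : ℤ) : mat (Y.w ^ s) *ᵥ Y.z = Y.z := by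
  induction s using Int.induction_on with
  | zero => rw [zpow_zero, one_act]
  | succ i ih => rw [_root_.zpow_add_one, mulVec_mul, Y.zfix, ih]
  | pred i ih => rw [_root_.zpow_sub_one, mulVec_mul, inv_fix Y.zfix, ih]

theorem form_shift (i j s : ℤ) :
    Cfsg.hermForm n F q (Y.P (i + s)) (Y.P (j + s)) = Cfsg.hermForm n F q (Y.P i) (Y.P j) := by
  rw [← Y.zpow_act, ← Y.zpow_act, form_mulVec]

theorem P_iso (k : ℤ) : Cfsg.hermForm n F q (Y.P k) (Y.P k) = 0 := by
  have := Y.form_shift 0 0 k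
  rwa [zero_add, Y.iso] at this

theorem form_ne (k : ℤ) : Cfsg.hermForm n F q (Y.P k) (Y.P (k + r)) ≠ 0 := by
  have := Y.form_shift 0 r k
  rw [zero_add, add_comm (r : ℤ) k] at this
  rw [this]
  exact Y.top

theorem form_ne' (k : ℤ) : Cfsg.hermForm n F q (Y.P (k + r)) (Y.P k) ≠ 0 := fun h =>
  Y.form_ne k (C.flip_zero h)

theorem form_zero_aux (e : ℕ) (he : e < 2 * r) (her : e ≠ r) :
    Cfsg.hermForm n F q (Y.P 0) (Y.P e) = 0 := by
  rcases Nat.eq_zero_or_pos e with rfl | he0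
  · exact Y.iso
  rcases lt_or_gt_of_ne her with h | h
  · exact Y.orth e he0 h
  have h5 := Y.form_shift 0 ((2 * r - e : ℕ) : ℤ) (e : ℤ)
  rw [zero_add, Y.orth _ (by omega) (by omega),
    show ((2 * r - e : ℕ) : ℤ) + (e : ℤ) = 0 + 2 * (r : ℤ) by omega, Y.per, C.neg_right, neg_eq_zero] at h5
  exact C.flip_zero h5

theorem form_zero {i j : ℤ} (h1 : i - 2 * (r : ℤ) ≤ j) (h2 : j ≤ i + 2 * (r : ℤ)) (h3 : j ≠ i + r)
    (h4 : j ≠ i - r) : Cfsg.hermForm n F q (Y.P i) (Y.P j) = 0 := by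
  have key : ∀ d : ℤ, 0 ≤ d → d ≤ 2 * (r : ℤ) → d ≠ r → Cfsg.hermForm n F q (Y.P 0) (Y.P d) = 0 := by
    intro d a b c
    rcases eq_or_lt_of_le b with rfl | hlt
    · rw [← zero_add (2 * (r : ℤ)), Y.per, C.neg_right, Y.iso, neg_zero]
    · lift d to ℕ using a
      exact Y.form_zero_aux d (by omega) (by omega)
  rcases le_total i j with h | h
  · have := Y.form_shift 0 (j - i) i
    rw [zero_add, sub_add_cancel] at this
    rw [this, key _ (by omega) (by omega) (by omega)]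
  · have := Y.form_shift 0 (i - j) j
    rw [zero_add, sub_add_cancel] at this
    refine C.flip_zero ?_
    rw [this, key _ (by omega) (by omega) (by omega)]

theorem orth2 {i j : ℤ} (h1 : i - 2 * (r : ℤ) ≤ j) (h2 : j ≤ i + 2 * (r : ℤ)) (h3 : j ≠ i + r)
    (h4 : j ≠ i - r) : Conj.Orth2 (q := q) (Y.P i) (Y.P j) :=
  ⟨Y.P_iso i, Y.P_iso j, Y.form_zero h1 h2 h3 h4⟩

/-- Orthogonal to the orbit. -/
def Perp (v : Fin n → F) : Prop := ∀ k, Cfsg.hermForm n F q v (Y.P k) = 0

theorem perp_of_window (hr : 0 < r) {v : Fin n → F}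
    (h : ∀ e : ℕ, e < 2 * r → Cfsg.hermForm n F q v (Y.P e) = 0) : Y.Perp v := by
  have hs : ∀ (m : ℤ) (e : ℕ), e < 2 * r →
      Cfsg.hermForm n F q v (Y.P ((e : ℤ) + m * (2 * (r : ℤ)))) = 0 := by
    intro m
    induction m using Int.induction_on with
    | zero => intro e he; simpa using h e he
    | succ i ih =>
      intro e he
      rw [show (e : ℤ) + ((i : ℤ) + 1) * (2 * (r : ℤ)) = e + (i : ℤ) * (2 * (r : ℤ)) + 2 * (r : ℤ) by ring,
        Y.per, C.neg_right, ih e he, neg_zero]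
    | pred i ih =>
      intro e he
      have := Y.per ((e : ℤ) + (-(i : ℤ) - 1) * (2 * (r : ℤ)))
      rw [show (e : ℤ) + (-(i : ℤ) - 1) * (2 * (r : ℤ)) + 2 * (r : ℤ)
        = e + (-(i : ℤ)) * (2 * (r : ℤ)) by ring] at this
      have h3 := ih e he
      rwa [this, C.neg_right, neg_eq_zero] at h3
  intro k
  have h0 := Int.emod_nonneg k (show (2 * (r : ℤ)) ≠ 0 by omega)
  have h1 := Int.emod_lt_of_pos k (show (0 : ℤ) < 2 * (r : ℤ) by omega)
  have := hs (k / (2 * (r : ℤ))) (k % (2 * (r : ℤ))).toNat (by omega)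
  rwa [Int.toNat_of_nonneg h0, add_comm, Int.ediv_mul_add_emod] at this

/-- The coefficient of `P e`. -/
noncomputable def coef (v : Fin n → F) (e : ℤ) : F :=
  Cfsg.hermForm n F q v (Y.P (e + r)) / Cfsg.hermForm n F q (Y.P e) (Y.P (e + r))

theorem decomp (hr : 0 < r) (v : Fin n → F) :
    Y.Perp (v - ∑ e ∈ Finset.range (2 * r), Y.coef v (e : ℤ) • Y.P (e : ℤ)) := by
  refine Y.perp_of_window hr fun e he => ?_
  rw [C.sub_left, sum_left C, sub_eq_zero]
  simp only [C.smul_left]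
  by_cases her : e < r
  · rw [Finset.sum_eq_single (e + r) (fun b hb hne => by
      rw [Finset.mem_range] at hb
      rw [Y.form_zero (by omega) (by omega) (by omega) (by omega), mul_zero])
      (fun h => absurd (Finset.mem_range.2 (by omega)) h)]
    have h1 := Y.form_ne' (e : ℤ)
    rw [coef, Nat.cast_add, show ((e : ℤ) + r + r) = e + 2 * (r : ℤ) by ring, Y.per, C.neg_right,
      C.neg_right, neg_div_neg_eq, div_mul_cancel₀ _ h1]
  · rw [Finset.sum_eq_single (e - r) (fun b hb hne => by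
      rw [Finset.mem_range] at hb
      rw [Y.form_zero (by omega) (by omega) (by omega) (by omega), mul_zero])
      (fun h => absurd (Finset.mem_range.2 (by omega)) h)]
    have h1 := Y.form_ne ((e : ℤ) - r)
    rw [sub_add_cancel] at h1
    rw [coef, Nat.cast_sub (not_lt.1 her), sub_add_cancel, div_mul_cancel₀ _ h1]

theorem ext (hr : 0 < r) {g g' : ↥(Cfsg.SU n F q)} (h : ∀ k, mat g *ᵥ Y.P k = mat g' *ᵥ Y.P k)
    (hz : mat g *ᵥ Y.z = mat g' *ᵥ Y.z) : g = g' := by
  refine su_ext fun v => ?_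
  obtain ⟨c, hc⟩ := Y.span _ (Y.decomp hr v)
  rw [sub_eq_iff_eq_add] at hc
  rw [hc]
  simp only [mulVec_add, mulVec_sum, mulVec_smul, h, hz]

variable {K : Subgroup ↥(Cfsg.SU n F q)}

theorem rt_shift (hw : Y.w ∈ K) {i j : ℤ} (h : Conj.Orth2 (q := q) (Y.P i) (Y.P j)) {c : F}
    (hc : C.rt (Y.P i) (Y.P j) c ∈ K) (s : ℤ) : C.rt (Y.P (i + s)) (Y.P (j + s)) c ∈ K := by
  have := mul_mem (mul_mem (zpow_mem hw s) hc) (inv_mem (zpow_mem hw s))
  rwa [C.conj_rt _ h, zpow_act, zpow_act] at this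

/-- All short root elements, from those at distance `r + 1`. -/
theorem rt_all (hw : Y.w ∈ K) (hr : 2 ≤ r)
    (h1 : ∀ c, C.rt (Y.P 0) (Y.P ((r : ℤ) + 1)) c ∈ K) :
    ∀ d : ℕ, d < 2 * r → d ≠ r → ∀ c, C.rt (Y.P 0) (Y.P d) c ∈ K := by
  have hup : ∀ s : ℕ, 1 ≤ s → s ≤ r → ∀ c, C.rt (Y.P 0) (Y.P ((r : ℤ) + s)) c ∈ K := by
    intro s
    induction s with
    | zero => omega
    | succ s ih =>
      intro _ hs
      rcases Nat.eq_zero_or_pos s with rfl | hs0
      · simpa using h1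
      intro c
      set τ := Cfsg.hermForm n F q (Y.P (s : ℤ)) (Y.P ((r : ℤ) + s)) with hτ
      have hτ0 : τ ≠ 0 := by
        rw [hτ, add_comm (r : ℤ)]
        exact Y.form_ne _
      set c' := -(c / C.σ τ) with hc'
      have o1 : Conj.Orth2 (q := q) (Y.P 0) (Y.P ((r : ℤ) + s)) :=
        Y.orth2 (by omega) (by omega) (by omega) (by omega)
      have o2 : Conj.Orth2 (q := q) (Y.P (s : ℤ)) (Y.P ((r : ℤ) + (s + 1 : ℕ))) :=
        Y.orth2 (by omega) (by omega) (by omega) (by omega)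
      have o3 : Conj.Orth2 (q := q) (Y.P 0) (Y.P ((r : ℤ) + (s + 1 : ℕ))) :=
        Y.orth2 (by omega) (by omega) (by omega) (by omega)
      have hA : C.rt (Y.P 0) (Y.P ((r : ℤ) + s)) c' ∈ K := ih (by omega) (by omega) c'
      have hB : C.rt (Y.P (s : ℤ)) (Y.P ((r : ℤ) + (s + 1 : ℕ))) 1 ∈ K := by
        have := Y.rt_shift hw (Y.orth2 (i := 0) (j := (r : ℤ) + 1) (by omega) (by omega) (by omega)
          (by omega)) (h1 1) (s : ℤ)
        rwa [zero_add, show (r : ℤ) + 1 + s = (r : ℤ) + (s + 1 : ℕ) by push_cast; ring] at this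
      have h2 := mul_mem (inv_mem hB) (mul_mem (mul_mem hA hB) (inv_mem hA))
      have z1 : Cfsg.hermForm n F q (Y.P (s : ℤ)) (Y.P 0) = 0 :=
        Y.form_zero (by omega) (by omega) (by omega) (by omega)
      have z2 : Cfsg.hermForm n F q (Y.P ((r : ℤ) + (s + 1 : ℕ))) (Y.P 0) = 0 :=
        Y.form_zero (by omega) (by omega) (by omega) (by omega)
      have z3 : Cfsg.hermForm n F q (Y.P ((r : ℤ) + (s + 1 : ℕ))) (Y.P ((r : ℤ) + s)) = 0 :=
        Y.form_zero (by omega) (by omega) (by omega) (by omega)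
      rw [C.conj_rt _ o2, C.rt_mulVec o1, z1, C.rt_fix o1 c' z2 z3, mul_zero, zero_smul, add_zero,
        ← hτ, sub_eq_add_neg, ← neg_smul,
        C.rt_add_left o2 (C.orth2_smul_left _ o3) (by rw [C.smul_right, z1, mul_zero]),
        inv_mul_cancel_left, C.rt_smul_left o3, one_mul] at h2
      rwa [map_neg, map_mul, C.hσ2, hc', neg_mul, neg_neg, div_mul_cancel₀ _ ((map_ne_zero C.σ).2 hτ0)]
        at h2
  intro d hd hdr c
  rcases lt_or_gt_of_ne hdr with hlt | hgt
  · rcases Nat.eq_zero_or_pos d with rfl | hd0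
    · have := hup r (by omega) le_rfl (-c)
      rw [show (r : ℤ) + r = 0 + 2 * (r : ℤ) by ring, Y.per, ← neg_one_smul F (Y.P 0),
        C.rt_smul_right ⟨Y.P_iso 0, Y.P_iso 0, Y.P_iso 0⟩, mul_neg_one, neg_neg] at this
      exact this
    · have o : Conj.Orth2 (q := q) (Y.P 0) (Y.P (d : ℤ)) :=
        Y.orth2 (by omega) (by omega) (by omega) (by omega)
      have e : (r : ℤ) + ((r - d : ℕ) : ℤ) + d = 0 + 2 * (r : ℤ) := by omega
      have := Y.rt_shift hw (Y.orth2 (i := 0) (j := (r : ℤ) + ((r - d : ℕ) : ℤ)) (by omega) (by omega)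
        (by omega) (by omega)) (hup (r - d) (by omega) (by omega) (C.σ c)) (d : ℤ)
      rw [zero_add, e, Y.per, ← neg_one_smul F (Y.P 0), C.rt_smul_right (C.orth2_symm o),
        C.rt_swap o, map_mul, C.hσ2, map_neg, map_one, mul_neg_one, neg_neg] at this
      exact this
  · have := hup (d - r) (by omega) (by omega) c
    rwa [show (r : ℤ) + ((d - r : ℕ) : ℤ) = d by omega] at this

/-- All short root elements, from the root elements with the fixed vector. -/
theorem rt_all_of_z (hw : Y.w ∈ K) (hzz : Cfsg.hermForm n F q Y.z Y.z = 1)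
    (hZ : ∀ c : F, ∃ s, EiOk C (Y.P 0) (c • Y.z) s ∧ ei C (Y.P 0) (c • Y.z) s ∈ K) :
    ∀ d : ℕ, d < 2 * r → d ≠ r → ∀ c, C.rt (Y.P 0) (Y.P d) c ∈ K := by
  have hZk : ∀ (k : ℤ) (c : F), ∃ s, EiOk C (Y.P k) (c • Y.z) s ∧ ei C (Y.P k) (c • Y.z) s ∈ K := by
    intro k c
    obtain ⟨s, h, hK⟩ := hZ c
    have h2 := mul_mem (mul_mem (zpow_mem hw k) hK) (inv_mem (zpow_mem hw k))
    have h3 := eiOk_conj C (Y.w ^ k) h
    rw [conj_ei C _ h, mulVec_smul, Y.zpow_z, Y.zpow_act, zero_add] at h2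
    rw [mulVec_smul, Y.zpow_z, Y.zpow_act, zero_add] at h3
    exact ⟨s, h3, h2⟩
  intro d hd hdr c
  obtain ⟨s, hA, hAK⟩ := hZk d 1
  obtain ⟨s', hB, hBK⟩ := hZk 0 (-c)
  rw [one_smul] at hA hAK
  have o : Conj.Orth2 (q := q) (Y.P 0) (Y.P d) := Y.orth2 (by omega) (by omega) (by omega) (by omega)
  have e0 : mat (ei C (Y.P d) Y.z s) *ᵥ Y.P 0 = Y.P 0 := by
    rw [ei_mulVec C hA, o.hxy, C.flip_zero (Y.zperp 0)]
    module
  have ez : mat (ei C (Y.P d) Y.z s) *ᵥ ((-c) • Y.z) = (-c) • Y.z + c • Y.P d := by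
    rw [ei_mulVec C hA, C.smul_left, C.smul_left, Y.zperp, hzz]
    module
  have h2 := mul_mem (inv_mem hBK) (mul_mem (mul_mem hAK hBK) (inv_mem hAK))
  rw [conj_ei C _ hB, e0, ez] at h2
  have e : ei C (Y.P 0) ((-c) • Y.z) s' * ei C (Y.P 0) (c • Y.P d) 0 =
      ei C (Y.P 0) ((-c) • Y.z + c • Y.P d) s' := by
    rw [ei_mul C hB (eiOk_rt C o c), C.smul_left, C.smul_right, C.flip_zero (Y.zperp d)]
    simp
  rwa [← e, inv_mul_cancel_left, ei_rt C o] at h2

/-- A subgroup with the cycle element and the root elements at `P 0` is everything. -/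
theorem eq_top [Fintype F] (hF : Fintype.card F = q ^ 2) (hne : C.σ ≠ RingHom.id F) (hn : 3 ≤ n)
    (h32 : ¬(n = 3 ∧ q = 2)) (hr : 0 < r) (hw : Y.w ∈ K)
    (hR : ∀ d : ℕ, d < 2 * r → d ≠ r → ∀ c, C.rt (Y.P 0) (Y.P d) c ∈ K)
    (hZ : ∀ c : F, ∃ s, EiOk C (Y.P 0) (c • Y.z) s ∧ ei C (Y.P 0) (c • Y.z) s ∈ K) : K = ⊤ := by
  obtain ⟨ι, hι⟩ := exists_trace_one C hne
  have ht : ∀ c, C.σ c = -c → C.tm (Y.P 0) c ∈ K := by
    intro c hc
    have := hR 0 (by omega) (by omega) (ι * c)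
    rwa [Nat.cast_zero, C.rt_self Y.iso, map_mul, hc,
      show ι * c - C.σ ι * -c = c by linear_combination c * hι] at this
  have hX : ∀ u s, EiOk C (Y.P 0) u s → ei C (Y.P 0) u s ∈ K := by
    intro u s hu
    suffices hex : ∃ s, EiOk C (Y.P 0) u s ∧ ei C (Y.P 0) u s ∈ K by
      obtain ⟨s', h', hK'⟩ := hex
      have hd : C.σ (s - s') = -(s - s') := by
        rw [map_sub]; linear_combination hu.hs - h'.hs
      have := mul_mem hK' (ht _ hd)
      rw [← ei_zero C Y.iso hd, ei_mul C h' (eiOk_zero C Y.iso hd), add_zero, C.zero_left] at this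
      simpa using this
    let A : AddSubgroup (Fin n → F) :=
      { carrier := {u | ∃ s, EiOk C (Y.P 0) u s ∧ ei C (Y.P 0) u s ∈ K}
        zero_mem' := ⟨0, eiOk_zero C Y.iso (by simp),
          by rw [ei_zero C Y.iso (by simp)]; exact ht 0 (by simp)⟩
        add_mem' := fun {u u'} ⟨s, h, hK⟩ ⟨s', h', hK'⟩ =>
          ⟨_, eiOk_add C h h', by rw [← ei_mul C h h']; exact mul_mem hK hK'⟩
        neg_mem' := fun {u} ⟨s, h, hK⟩ => by
          have hok : EiOk C (Y.P 0) (-u) (C.σ s) := by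
            refine ⟨h.he, by rw [← neg_one_smul F u, C.smul_left, h.hue, mul_zero], ?_⟩
            rw [C.hσ2, add_comm, h.hs, ← neg_one_smul F u, C.smul_left, C.smul_right]
            simp
          refine ⟨_, hok, ?_⟩
          have e : ei C (Y.P 0) u s * ei C (Y.P 0) (-u) (C.σ s) = 1 := by
            rw [ei_mul C h hok, add_neg_cancel, ← neg_one_smul F u, C.smul_left, h.hs,
              show -Cfsg.hermForm n F q u u - -1 * Cfsg.hermForm n F q u u = 0 by ring,
              ei_zero C Y.iso (by simp), C.tm_zero Y.iso]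
          rw [eq_inv_of_mul_eq_one_right e]
          exact inv_mem hK }
    show u ∈ A
    obtain ⟨c, hc⟩ := Y.span _ (Y.decomp hr u)
    rw [sub_eq_iff_eq_add] at hc
    rw [hc]
    refine A.add_mem (hZ c) (A.sum_mem fun e he => ?_)
    rw [Finset.mem_range] at he
    by_cases her : e = r
    · subst her
      have : Y.coef u (e : ℤ) = 0 := by
        rw [coef, show (e : ℤ) + e = 0 + 2 * (e : ℤ) by ring, Y.per, C.neg_right, hu.hue]
        simp
      rw [this, zero_smul]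
      exact A.zero_mem
    · have o : Conj.Orth2 (q := q) (Y.P 0) (Y.P e) := Y.orth2 (by omega) (by omega) (by omega) (by omega)
      exact ⟨0, eiOk_rt C o _, by rw [ei_rt C o]; exact hR e he her _⟩
  have hXk : ∀ k u s, EiOk C (Y.P k) u s → ei C (Y.P k) u s ∈ K := by
    intro k u s hu
    have h0 : EiOk C (Y.P 0) (mat (Y.w ^ (-k)) *ᵥ u) s := by
      have := eiOk_conj C (Y.w ^ (-k)) hu
      rwa [Y.zpow_act, add_neg_cancel] at this
    have := mul_mem (mul_mem (zpow_mem hw k) (hX _ _ h0)) (inv_mem (zpow_mem hw k))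
    rwa [conj_ei C _ h0, Y.zpow_act, zero_add, ← mulVec_mul, ← _root_.zpow_add, add_neg_cancel, zpow_zero,
      one_act] at this
  have hPW : ∀ k, Y.P k ∈ C.Wset K := fun k => ⟨Y.P_iso k, fun c hc => by
    rw [← ei_zero C (Y.P_iso k) hc]; exact hXk k 0 c (eiOk_zero C (Y.P_iso k) hc)⟩
  have hmove : ∀ (g : ↥(Cfsg.SU n F q)) v, g ∈ K → mat g *ᵥ v ∈ C.Wset K → v ∈ C.Wset K := by
    intro g v hg hv
    have hiso : Cfsg.hermForm n F q v v = 0 := by rw [← form_mulVec g]; exact hv.1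
    refine ⟨hiso, fun c hc => ?_⟩
    have := mul_mem (mul_mem (inv_mem hg) (hv.2 c hc)) hg
    rwa [← C.conj_tm g hiso hc, ← mul_assoc, ← mul_assoc, inv_mul_cancel, one_mul, inv_mul_cancel_right]
      at this
  refine eq_top_of_tm hF C hn h32 K fun v c hv hc => ?_
  refine (show v ∈ C.Wset K from ?_).2 c hc
  by_cases h : ∃ k, Cfsg.hermForm n F q v (Y.P k) ≠ 0
  · obtain ⟨k, hk⟩ := h
    have hne' := Y.form_ne' k
    set a := Cfsg.hermForm n F q v (Y.P k) with ha
    set e := Y.P k with he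
    set f := Y.P (k + r) with hf
    set φ := Cfsg.hermForm n F q f e with hφ
    set β := a / φ with hβdef
    have hβ : β ≠ 0 := div_ne_zero hk hne'
    set u0 := (-a⁻¹) • (v - β • f) with hu0
    have hu0e : Cfsg.hermForm n F q u0 e = 0 := by
      rw [hu0, C.smul_left, C.sub_left, C.smul_left, ← ha, ← hφ, hβdef, div_mul_cancel₀ _ hne',
        sub_self, mul_zero]
    obtain ⟨s, hs⟩ := exists_height C hne u0
    have hok : EiOk C e u0 s := ⟨Y.P_iso k, hu0e, hs⟩
    obtain ⟨α, hα⟩ : ∃ α : F, mat (ei C e u0 s) *ᵥ v = β • f + α • e := by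
      refine ⟨s * a - Cfsg.hermForm n F q v u0, ?_⟩
      rw [ei_mulVec C hok, ← ha, hu0, smul_smul, mul_neg, mul_inv_cancel₀ hk, neg_one_smul]
      abel
    refine hmove _ v (hXk k u0 s hok) ?_
    rw [hα]
    set t := α / (β * φ) with htdef
    have ht' : C.σ t = -t := by
      have hiso := form_mulVec (ei C e u0 s) v v
      rw [hα, hv] at hiso
      simp only [C.add_left, C.add_right, C.smul_left, C.smul_right, show Cfsg.hermForm n F q e e = 0 from
        Y.P_iso k, show Cfsg.hermForm n F q f f = 0 from Y.P_iso _, C.flip f e, ← hφ, mul_zero, zero_add,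
        add_zero] at hiso
      have hβσ : C.σ β ≠ 0 := (map_ne_zero C.σ).2 hβ
      have hφσ : C.σ φ ≠ 0 := (map_ne_zero C.σ).2 hne'
      rw [htdef, map_div₀, map_mul, ← neg_div, div_eq_div_iff (mul_ne_zero hβσ hφσ) (mul_ne_zero hβ hne')]
      linear_combination hiso
    have e1 : mat (C.tm e t) *ᵥ (β • f) = β • f + α • e := by
      rw [mulVec_smul, C.tm_mulVec (Y.P_iso k) ht', ← hφ, smul_add, smul_smul,
        show β * (t * φ) = α by rw [htdef]; field_simp]
    rw [← e1]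
    refine hmove (C.tm e t)⁻¹ _ (inv_mem ((hPW k).2 t ht')) ?_
    rw [inv_fix rfl]
    exact Wset_smul C (hPW _) β
  · push Not at h
    obtain ⟨c', rfl⟩ := Y.span v h
    rw [Y.ziso c' hv]
    exact ⟨C.zero_left _, fun d _ => by rw [C.tm_zero_vec]; exact K.one_mem⟩

end UCycle

end CfsgLib.TwoGen46
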