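import Cfsg.Agent.Lib.TwoGen46.UniCore
import Cfsg.Agent.Lib.UnitaryEmbed.HermSpace

/-! Two generators of `PSU_n(q)`. -/

set_option autoImplicit false

namespace CfsgLib.TwoGen46

open Matrix CfsgLib.RegUnipU UHerm

variable {F : Type*} [Field F] {n q : ℕ}

/-- An additive subgroup stable under multiplication by an element of large order is everything. -/
theorem addSubgroup_full [Fintype F] (hF : Fintype.card F = q ^ 2) {A : AddSubgroup F} {m c₀ : F}
    (hc : c₀ ∈ A) (hc0 : c₀ ≠ 0) (hA : ∀ a ∈ A, m * a ∈ A) (hm0 : m ≠ 0)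
    (hm : ∀ j : ℕ, 1 ≤ j → j ≤ q - 1 → m ^ j ≠ 1) (x : F) : x ∈ A := by
  classical
  have hpow : ∀ y : F, (∀ a ∈ A, y * a ∈ A) → ∀ k : ℕ, ∀ a ∈ A, y ^ k * a ∈ A := by
    intro y hy k
    induction k with
    | zero => simp
    | succ k ih => intro a ha; rw [pow_succ', mul_assoc]; exact hy _ (ih a ha)
  let B : Subfield F :=
    { carrier := {y | ∀ a ∈ A, y * a ∈ A}
      one_mem' := fun a ha => by rwa [one_mul]
      mul_mem' := fun {y y'} hy hy' a ha => by rw [mul_assoc]; exact hy _ (hy' a ha)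
      zero_mem' := fun a _ => by rw [zero_mul]; exact A.zero_mem
      add_mem' := fun {y y'} hy hy' a ha => by rw [add_mul]; exact A.add_mem (hy a ha) (hy' a ha)
      neg_mem' := fun {y} hy a ha => by rw [neg_mul]; exact A.neg_mem (hy a ha)
      inv_mem' := fun y hy a ha => by
        rcases eq_or_ne y 0 with rfl | hy0
        · rw [_root_.inv_zero, zero_mul]; exact A.zero_mem
        · have h1 := FiniteField.pow_card_sub_one_eq_one y hy0
          rw [show Fintype.card F - 1 = (Fintype.card F - 2) + 1 by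
            have := Fintype.one_lt_card (α := F); omega, pow_succ] at h1
          rw [← eq_inv_of_mul_eq_one_left h1]
          exact hpow y hy _ a ha }
  suffices hB : x / c₀ ∈ B by
    have h := (show ∀ a ∈ A, x / c₀ * a ∈ A from hB) c₀ hc
    rwa [div_mul_cancel₀ _ hc0] at h
  have hk : Nat.card F = Nat.card B ^ Module.finrank B F := Module.natCard_eq_pow_finrank
  have h1 : 1 < Nat.card B := Finite.one_lt_card
  have hpos : 0 < Module.finrank B F := Module.finrank_pos
  rcases (show Module.finrank B F = 1 ∨ 2 ≤ Module.finrank B F by omega) with h | h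
  · rw [h, pow_one] at hk
    have hs := ((Fintype.bijective_iff_injective_and_card (Subtype.val : B → F)).2
      ⟨Subtype.val_injective, by simpa [Nat.card_eq_fintype_card] using hk.symm⟩).2
    obtain ⟨⟨y, hy⟩, e⟩ := hs (x / c₀)
    simp only at e
    rw [← e]; exact hy
  · exfalso
    have h2 : Nat.card B ≤ q := by
      have h3 : Nat.card B ^ 2 ≤ q ^ 2 := by
        rw [← hF, ← Nat.card_eq_fintype_card, hk]
        exact Nat.pow_le_pow_right (by omega) h
      exact (Nat.pow_le_pow_iff_left (by norm_num)).1 h3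
    refine hm (Nat.card B - 1) (by omega) (by omega) ?_
    have : Fintype B := Fintype.ofFinite B
    have h4 := FiniteField.pow_card_sub_one_eq_one (⟨m, hA⟩ : B) (fun e => hm0 (congrArg Subtype.val e))
    rw [Nat.card_eq_fintype_card]
    simpa using congrArg Subtype.val h4

/-- The form in a basis made of hyperbolic pairs and unit vectors. -/
abbrev sw (r δ : ℕ) : (Fin r ⊕ Fin r) ⊕ Fin δ → (Fin r ⊕ Fin r) ⊕ Fin δ := Sum.map Sum.swap id

theorem sw_sw {r δ : ℕ} (i : (Fin r ⊕ Fin r) ⊕ Fin δ) : sw r δ (sw r δ i) = i := by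
  rcases i with (i | i) | i <;> rfl

theorem exists_basis [Fintype F] (hF : Fintype.card F = q ^ 2) (C : Conj F q)
    (hne : C.σ ≠ RingHom.id F) {r δ : ℕ} (hn : n = 2 * r + δ) :
    ∃ b : Module.Basis ((Fin r ⊕ Fin r) ⊕ Fin δ) F (Fin n → F),
      ∀ i j, Cfsg.hermForm n F q (b i) (b j) = if j = sw r δ i then 1 else 0 := by
  classical
  let swE : Equiv.Perm ((Fin r ⊕ Fin r) ⊕ Fin δ) :=
    ⟨sw r δ, sw r δ, sw_sw, sw_sw⟩
  let B : (((Fin r ⊕ Fin r) ⊕ Fin δ) → F) →ₛₗ[C.σ] (((Fin r ⊕ Fin r) ⊕ Fin δ) → F) →ₗ[F] F :=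
    LinearMap.mk₂'ₛₗ C.σ (RingHom.id F) (fun y x => ∑ k, x k * C.σ (y (sw r δ k)))
      (fun y y' x => by simp [mul_add, Finset.sum_add_distrib])
      (fun c y x => by
        simp only [Pi.smul_apply, smul_eq_mul, map_mul, Finset.mul_sum]
        exact Finset.sum_congr rfl fun _ _ => by ring)
      (fun y x x' => by simp [add_mul, Finset.sum_add_distrib])
      (fun c y x => by
        simp only [Pi.smul_apply, smul_eq_mul, Finset.mul_sum, RingHom.id_apply]
        exact Finset.sum_congr rfl fun _ _ => by ring)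
  have hS : ∀ x y, C.σ (B x y) = B y x := by
    intro x y
    show C.σ (∑ k, y k * C.σ (x (sw r δ k))) = ∑ k, x k * C.σ (y (sw r δ k))
    rw [map_sum]
    refine Fintype.sum_equiv swE _ _ fun k => ?_
    show _ = x (sw r δ k) * C.σ (y (sw r δ (sw r δ k)))
    rw [map_mul, C.hσ2, sw_sw, mul_comm]
  have hsep : B.SeparatingLeft := by
    intro y hy
    funext i
    have h0 : (∑ k, (Pi.single (sw r δ i) (1 : F) : _ → F) k * C.σ (y (sw r δ k))) = 0 := hy _
    rw [Finset.sum_eq_single (sw r δ i) (fun k _ hk => by rw [Pi.single_eq_of_ne hk, zero_mul])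
      (by simp), Pi.single_eq_same, one_mul, sw_sw] at h0
    exact (map_eq_zero C.σ).1 h0
  obtain ⟨e, he⟩ := CfsgLib.UnitaryEmbed.exists_std_equiv hF C.σ C.hσ hne C.hσ2 B hS hsep
    (show Module.finrank F (((Fin r ⊕ Fin r) ⊕ Fin δ) → F) = n by simp; omega)
  refine ⟨(Pi.basisFun F _).map e.symm, fun i j => ?_⟩
  rw [Module.Basis.map_apply, Module.Basis.map_apply, ← he, LinearEquiv.apply_symm_apply,
    LinearEquiv.apply_symm_apply]
  show (∑ k, (Pi.basisFun F _ i) k * C.σ (Pi.basisFun F _ j (sw r δ k))) = _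
  rw [Finset.sum_eq_single i (fun k _ hk => by simp [Pi.single_eq_of_ne hk]) (by simp)]
  simp [Pi.single_apply, eq_comm]

theorem exists_mono_su (C : Conj F q) {r δ : ℕ} (b : Module.Basis ((Fin r ⊕ Fin r) ⊕ Fin δ) F (Fin n → F))
    (hb : ∀ i j, Cfsg.hermForm n F q (b i) (b j) = if j = sw r δ i then 1 else 0)
    (π : Equiv.Perm ((Fin r ⊕ Fin r) ⊕ Fin δ)) (c : (Fin r ⊕ Fin r) ⊕ Fin δ → F)
    (hπ : ∀ i, π (sw r δ i) = sw r δ (π i)) (hc : ∀ i, c i * C.σ (c (sw r δ i)) = 1)
    (hdet : ((Equiv.Perm.sign π : ℤ) : F) * ∏ i, c i = 1) :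
    ∃ g : ↥(Cfsg.SU n F q), ∀ i, mat g *ᵥ b i = c i • b (π i) := by
  classical
  set L := b.constr F fun i => c i • b (π i) with hL
  have hLb : ∀ i, L (b i) = c i • b (π i) := fun i => b.constr_basis F _ i
  have hd : (LinearMap.toMatrix' L).det = 1 := by
    rw [LinearMap.det_toMatrix', ← LinearMap.det_toMatrix b]
    have : LinearMap.toMatrix b b L
        = (1 : Matrix _ _ F).submatrix id π * Matrix.diagonal c := by
      ext i j
      rw [LinearMap.toMatrix_apply, hLb, map_smul, b.repr_self]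
      simp [Matrix.mul_diagonal, Matrix.one_apply, Finsupp.single_apply, eq_comm]
    rw [this, det_mul, Matrix.det_permute', det_one, mul_one, det_diagonal, hdet]
  have hpres : ∀ x y, Cfsg.hermForm n F q (L x) (L y) = Cfsg.hermForm n F q x y := by
    have hr : ∀ u v, (∀ j, Cfsg.hermForm n F q (L u) (L (b j)) = Cfsg.hermForm n F q u (b j)) →
        Cfsg.hermForm n F q (L u) (L v) = Cfsg.hermForm n F q u v := by
      intro u v h
      have hv : v ∈ Submodule.span F (Set.range b) := by rw [b.span_eq]; exact Submodule.mem_top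
      induction hv using Submodule.span_induction with
      | mem x hx => obtain ⟨i, rfl⟩ := hx; exact h i
      | zero => simp [C.zero_right]
      | add x y _ _ h1 h2 => rw [map_add, C.add_right, C.add_right, h1, h2]
      | smul t x _ h => rw [map_smul, C.smul_right, C.smul_right, h]
    intro x y
    refine hr x y fun j => ?_
    have hx : x ∈ Submodule.span F (Set.range b) := by rw [b.span_eq]; exact Submodule.mem_top
    induction hx using Submodule.span_induction with
    | mem x hx =>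
      obtain ⟨i, rfl⟩ := hx
      rw [hLb, hLb, C.smul_left, C.smul_right, hb, hb]
      by_cases h : j = sw r δ i
      · rw [if_pos h, if_pos (by rw [h, hπ]), mul_one, h, hc]
      · rw [if_neg h, if_neg (fun e => h (π.injective (by rw [e, hπ]))), mul_zero, mul_zero]
    | zero => simp [C.zero_left]
    | add x y _ _ h1 h2 => rw [map_add, C.add_left, C.add_left, h1, h2]
    | smul t x _ h => rw [map_smul, C.smul_left, C.smul_left, h]
  refine ⟨⟨⟨LinearMap.toMatrix' L, hd⟩, fun x y => ?_⟩, fun i => ?_⟩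
  · show Cfsg.hermForm n F q (LinearMap.toMatrix' L *ᵥ x) (LinearMap.toMatrix' L *ᵥ y) = _
    rw [LinearMap.toMatrix'_mulVec, LinearMap.toMatrix'_mulVec, hpres]
  · show LinearMap.toMatrix' L *ᵥ b i = _
    rw [LinearMap.toMatrix'_mulVec, hLb]

theorem val_finRotate : ∀ {N : ℕ} (i : Fin N),
    (finRotate N i : ℕ) = if i.val + 1 = N then 0 else i.val + 1
  | 0, i => i.elim0
  | N + 1, i => by
    rw [coe_finRotate]
    by_cases h : i = Fin.last N
    · subst h; simp
    · rw [if_neg h, if_neg]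
      intro e
      exact h (Fin.ext (by simpa using e))

theorem sign_finRotate_pos : ∀ {N : ℕ}, 0 < N → Equiv.Perm.sign (finRotate N) = (-1) ^ (N - 1)
  | 0, h => absurd h (lt_irrefl 0)
  | N + 1, _ => by rw [sign_finRotate, Nat.add_sub_cancel]

/-- The cycle, its vectors in terms of the basis, and the diagonal elements. -/
theorem exists_uCycle [Fintype F] (hF : Fintype.card F = q ^ 2) (C : Conj F q)
    (hne : C.σ ≠ RingHom.id F) {r δ : ℕ} (hr : 0 < r) (hδ : δ ≤ 1) (hn : n = 2 * r + δ) :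
    ∃ Y : UCycle C n r, (δ = 0 → Y.z = 0) ∧ (δ = 1 → Cfsg.hermForm n F q Y.z Y.z = 1) ∧
      ∀ (lam : Fin r → Fˣ) (μ : F), μ * C.σ μ = 1 →
        (∏ i, ((lam i : F) * (C.σ (lam i : F))⁻¹)) * μ ^ δ = 1 →
        ∃ h : ↥(Cfsg.SU n F q), mat h *ᵥ Y.z = μ • Y.z ∧
          (∀ i : Fin r, mat h *ᵥ Y.P (i.val : ℤ) = (lam i : F) • Y.P (i.val : ℤ)) ∧
          ∀ i : Fin r, mat h *ᵥ Y.P ((r : ℤ) + (i.val : ℤ)) =
            (C.σ (lam i : F))⁻¹ • Y.P ((r : ℤ) + (i.val : ℤ)) := by
  classical
  obtain ⟨b, hb⟩ := exists_basis hF C hne hn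
  obtain ⟨γ, hγ0, hγ⟩ := exists_skew C hne
  set π0 : Equiv.Perm (Fin r ⊕ Fin r) := finSumFinEquiv.symm.permCongr (finRotate (r + r)) with hπ0
  set π := Equiv.Perm.sumCongr π0 (1 : Equiv.Perm (Fin δ)) with hπdef
  have hl : ∀ i : Fin r, π0 (.inl i) =
      if h : i.val + 1 < r then .inl ⟨i.val + 1, h⟩ else .inr ⟨0, hr⟩ := fun i => by
    apply finSumFinEquiv.injective
    apply Fin.ext
    rw [hπ0, Equiv.permCongr_apply, Equiv.symm_symm, Equiv.apply_symm_apply, val_finRotate]
    have := i.isLt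
    split_ifs with h1 h
    · simp [finSumFinEquiv_apply_left, finSumFinEquiv_apply_right] at h1 ⊢ <;> omega
    · simp [finSumFinEquiv_apply_left, finSumFinEquiv_apply_right] at h1 ⊢ <;> omega
    · simp [finSumFinEquiv_apply_left, finSumFinEquiv_apply_right] at h1 ⊢ <;> omega
    · simp [finSumFinEquiv_apply_left, finSumFinEquiv_apply_right] at h1 ⊢ <;> omega
  have hr' : ∀ i : Fin r, π0 (.inr i) =
      if h : i.val + 1 < r then .inr ⟨i.val + 1, h⟩ else .inl ⟨0, hr⟩ := fun i => by
    apply finSumFinEquiv.injective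
    apply Fin.ext
    rw [hπ0, Equiv.permCongr_apply, Equiv.symm_symm, Equiv.apply_symm_apply, val_finRotate]
    have := i.isLt
    split_ifs with h1 h
    · simp [finSumFinEquiv_apply_left, finSumFinEquiv_apply_right] at h1 ⊢ <;> omega
    · simp [finSumFinEquiv_apply_left, finSumFinEquiv_apply_right] at h1 ⊢ <;> omega
    · simp [finSumFinEquiv_apply_left, finSumFinEquiv_apply_right] at h1 ⊢ <;> omega
    · simp [finSumFinEquiv_apply_left, finSumFinEquiv_apply_right] at h1 ⊢ <;> omega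
  set last : Fin r := ⟨r - 1, by omega⟩ with hlast
  set c : (Fin r ⊕ Fin r) ⊕ Fin δ → F :=
    Sum.elim (Sum.elim (Pi.mulSingle last γ) (Pi.mulSingle last (-γ⁻¹))) 1 with hc
  obtain ⟨w, hw⟩ := exists_mono_su C b hb π c (fun i => by
      rcases i with (i | i) | i
      · simp only [sw, hπdef, Sum.map_inl, Sum.swap_inl, Equiv.Perm.sumCongr_apply, hl, hr']
        split_ifs <;> rfl
      · simp only [sw, hπdef, Sum.map_inl, Sum.swap_inr, Equiv.Perm.sumCongr_apply, hl, hr']
        split_ifs <;> rfl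
      · simp [sw, hπdef])
    (fun i => by
      rcases i with (i | i) | i
      · by_cases h : i = last
        · subst h; simp [hc, sw, hγ, hγ0]
        · simp [hc, sw, h]
      · by_cases h : i = last
        · subst h; simp [hc, sw, hγ, hγ0]
        · simp [hc, sw, h]
      · simp [hc, sw])
    (by
      rw [hπdef, Equiv.Perm.sign_sumCongr, hπ0, Equiv.Perm.sign_permCongr,
        sign_finRotate_pos (by omega), map_one, mul_one,
        Odd.neg_one_pow (show Odd (r + r - 1) from ⟨r - 1, by omega⟩)]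
      simp [hc, Fintype.prod_sum_type, Finset.prod_pi_mulSingle', hγ0])
  set P : ℤ → Fin n → F := fun k => mat (w ^ k) *ᵥ b (.inl (.inl ⟨0, hr⟩)) with hP
  have hact : ∀ k, mat w *ᵥ P k = P (k + 1) := fun k => by
    simp only [hP]
    rw [← mulVec_mul, ← _root_.zpow_one_add, add_comm]
  have hwl : ∀ (i : ℕ) (h : i + 1 < r),
      mat w *ᵥ b (.inl (.inl ⟨i, by omega⟩)) = b (.inl (.inl ⟨i + 1, h⟩)) := fun i h => by
    rw [hw]
    simp [hc, hπdef, hl, h, hlast, Fin.ext_iff, show i ≠ r - 1 by omega]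
  have hwr : ∀ (i : ℕ) (h : i + 1 < r),
      mat w *ᵥ b (.inl (.inr ⟨i, by omega⟩)) = b (.inl (.inr ⟨i + 1, h⟩)) := fun i h => by
    rw [hw]
    simp [hc, hπdef, hr', h, hlast, Fin.ext_iff, show i ≠ r - 1 by omega]
  have hPl : ∀ (i : ℕ) (h : i < r), P (i : ℤ) = b (.inl (.inl ⟨i, h⟩)) := by
    intro i
    induction i with
    | zero => intro h; simp [hP, one_act]
    | succ i ih => intro h; rw [Nat.cast_succ, ← hact, ih (by omega), hwl i h]
  have hPr : ∀ (i : ℕ) (h : i < r), P ((r : ℤ) + i) = γ • b (.inl (.inr ⟨i, h⟩)) := by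
    intro i
    induction i with
    | zero =>
      intro h
      rw [Nat.cast_zero, add_zero, show (r : ℤ) = ((r - 1 : ℕ) : ℤ) + 1 by omega, ← hact,
        hPl (r - 1) (by omega), hw]
      simp [hc, hπdef, hl, hlast, show ¬(r - 1 + 1 < r) by omega]
    | succ i ih => intro h; rw [Nat.cast_succ, ← add_assoc, ← hact, ih (by omega), mulVec_smul, hwr i h]
  have hper0 : P (2 * (r : ℤ)) = -P 0 := by
    rw [show 2 * (r : ℤ) = (r : ℤ) + ((r - 1 : ℕ) : ℤ) + 1 by omega, ← hact, hPr (r - 1) (by omega),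
      mulVec_smul, hw, show P 0 = b (.inl (.inl ⟨0, hr⟩)) from hPl 0 hr]
    simp [hc, hπdef, hr', hlast, show ¬(r - 1 + 1 < r) by omega, hγ0]
  have hwinr : ∀ t, mat w *ᵥ b (.inr t) = b (.inr t) := fun t => by rw [hw]; simp [hc, hπdef]
  have hform : ∀ (v : Fin n → F) j, Cfsg.hermForm n F q v (b j) = b.repr v (sw r δ j) := by
    intro v j
    conv_lhs => rw [← b.sum_repr v]
    rw [sum_left C, Finset.sum_eq_single (sw r δ j)]
    · rw [C.smul_left, hb, if_pos (sw_sw j).symm, mul_one]
    · intro k _ hk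
      rw [C.smul_left, hb, if_neg (fun e => hk (by rw [e, sw_sw])), mul_zero]
    · simp
  have hperall : ∀ k, P (k + 2 * (r : ℤ)) = -P k := fun k => by
    have := congrArg (fun v => mat (w ^ k) *ᵥ v) hper0
    simp only [hP] at this ⊢
    rwa [← mulVec_mul, ← _root_.zpow_add, mulVec_neg, zpow_zero, one_act] at this
  set z : Fin n → F := ∑ t : Fin δ, b (.inr t) with hzdef
  have hwz : mat w *ᵥ z = z := by
    rw [hzdef, mulVec_sum]
    exact Finset.sum_congr rfl fun t _ => hwinr t
  have hzk : ∀ (k : ℤ), mat (w ^ k) *ᵥ z = z := by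
    intro k
    induction k using Int.induction_on with
    | zero => rw [zpow_zero, one_act]
    | succ i ih => rw [_root_.zpow_add_one, mulVec_mul, hwz, ih]
    | pred i ih => rw [_root_.zpow_sub_one, mulVec_mul, inv_fix hwz, ih]
  have hz0 : δ = 0 → z = 0 := fun h => by subst h; simp [hzdef]
  have hz1 : δ = 1 → Cfsg.hermForm n F q z z = 1 := fun h => by
    subst h; simp [hzdef, hb, sw]
  refine ⟨{ w := w, P := P, z := z, act := hact, per := hperall, iso := ?_, orth := ?_, top := ?_,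
            zfix := hwz, zperp := ?_, span := ?_, ziso := ?_ }, hz0, hz1, fun lam μ hμ hdet => ?_⟩
  · rw [show P 0 = b (.inl (.inl ⟨0, hr⟩)) from hPl 0 hr, hb, if_neg (by simp [sw])]
  · intro d _ hd
    rw [show P 0 = b (.inl (.inl ⟨0, hr⟩)) from hPl 0 hr, hPl d hd, hb, if_neg (by simp [sw])]
  · have := hPr 0 hr
    rw [Nat.cast_zero, add_zero] at this
    rw [show P 0 = b (.inl (.inl ⟨0, hr⟩)) from hPl 0 hr, this, C.smul_right, hb, if_pos (by simp [sw]),
      mul_one, hγ, neg_ne_zero]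
    exact hγ0
  · intro k
    simp only [hP]
    conv_lhs => rw [← hzk k]
    rw [form_mulVec, hzdef, sum_left C]
    exact Finset.sum_eq_zero fun t _ => by rw [hb, if_neg (by simp [sw])]
  · intro v hv
    refine ⟨∑ t : Fin δ, b.repr v (.inr t), ?_⟩
    have h0 : ∀ j : Fin r ⊕ Fin r, b.repr v (.inl j) = 0 := by
      rintro (i | i)
      · have := hv ((r : ℤ) + (i.val : ℤ))
        rw [hPr i.val i.isLt, C.smul_right, mul_eq_zero] at this
        have h2 := this.resolve_left ((map_ne_zero C.σ).2 hγ0)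
        rw [hform] at h2
        exact h2
      · have h2 := hv (i.val : ℤ)
        rw [hPl i.val i.isLt, hform] at h2
        exact h2
    conv_lhs => rw [← b.sum_repr v, Fintype.sum_sum_type]
    simp only [h0, zero_smul, Finset.sum_const_zero, zero_add, hzdef, Finset.smul_sum]
    refine Finset.sum_congr rfl fun t _ => ?_
    rw [Finset.sum_eq_single t (fun t' _ ht => absurd (Fin.ext (by omega)) ht) (by simp)]
  · intro t ht
    rcases (show δ = 0 ∨ δ = 1 by omega) with h | h
    · rw [hz0 h, smul_zero]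
    · rw [C.smul_left, C.smul_right, hz1 h, mul_one, mul_eq_zero, map_eq_zero, or_self] at ht
      rw [ht, zero_smul]
  · obtain ⟨h, hh⟩ := exists_mono_su C b hb 1
      (Sum.elim (Sum.elim (fun i => (lam i : F)) (fun i => (C.σ (lam i : F))⁻¹)) fun _ => μ)
      (fun i => rfl) (fun i => by
        rcases i with (i | i) | i
        · simp [sw, C.hσ2]
        · simp [sw]
        · simpa [sw] using hμ)
      (by
        rw [Finset.prod_mul_distrib, Finset.prod_inv_distrib] at hdet
        simpa [Fintype.prod_sum_type] using hdet)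
    refine ⟨h, ?_, fun i => ?_, fun i => ?_⟩
    · show mat h *ᵥ z = μ • z
      rw [hzdef, mulVec_sum, Finset.smul_sum]
      exact Finset.sum_congr rfl fun t _ => by rw [hh]; simp
    · show mat h *ᵥ P (i.val : ℤ) = _ • P (i.val : ℤ)
      rw [hPl i.val i.isLt, hh]; simp
    · show mat h *ᵥ P ((r : ℤ) + (i.val : ℤ)) = _ • P ((r : ℤ) + (i.val : ℤ))
      rw [hPr i.val i.isLt, mulVec_smul, hh]; simp [smul_comm γ]

end CfsgLib.TwoGen46
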