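import Cfsg.Agent.Lib.TwoGen46.UniGen

/-! `PSU_n(q)` is generated by two elements. -/

set_option autoImplicit false

namespace CfsgLib.TwoGen46

open Matrix CfsgLib.RegUnipU UHerm

variable {F : Type*} [Field F] {n q r : ℕ} {C : Conj F q}

/-- The commutator of `h` and `(x w) h (x w)⁻¹`. -/
theorem steinberg_key {G : Type*} [Group G] {K : Subgroup G} {x w h : G} (hh : h ∈ K) (hb : x * w ∈ K)
    (hc : h * (w * h * w⁻¹) = (w * h * w⁻¹) * h) :
    (h * x * h⁻¹) * ((w * h * w⁻¹) * ((h * x * h⁻¹)⁻¹ * x) * (w * h * w⁻¹)⁻¹) * x⁻¹ ∈ K := by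
  set g := w * h * w⁻¹ with hg
  have key : h * (x * g * x⁻¹) * h⁻¹ * (x * g * x⁻¹)⁻¹ =
      (h * x * h⁻¹) * (g * ((h * x * h⁻¹)⁻¹ * x) * g⁻¹) * x⁻¹ := by
    calc h * (x * g * x⁻¹) * h⁻¹ * (x * g * x⁻¹)⁻¹
        = (h * x * h⁻¹) * ((h * g) * h⁻¹ * ((h * x * h⁻¹)⁻¹ * x) * g⁻¹) * x⁻¹ := by group
      _ = _ := by rw [hc]; group
  have hmem : x * g * x⁻¹ ∈ K := by
    have := mul_mem (mul_mem hb hh) (inv_mem hb)
    rwa [show x * w * h * (x * w)⁻¹ = x * g * x⁻¹ by rw [hg]; group] at this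
  rw [← key]
  exact mul_mem (mul_mem (mul_mem hh hmem) (inv_mem hh)) (inv_mem hmem)

theorem eiOk_neg {e u : Fin n → F} {s : F} (h : EiOk C e u s) : EiOk C e (-u) (C.σ s) := by
  refine ⟨h.he, by rw [← neg_one_smul F u, C.smul_left, h.hue, mul_zero], ?_⟩
  rw [C.hσ2, add_comm, h.hs, ← neg_one_smul F u, C.smul_left, C.smul_right]
  simp

theorem ei_inv {e u : Fin n → F} {s : F} (h : EiOk C e u s) :
    (ei C e u s)⁻¹ = ei C e (-u) (C.σ s) := by
  refine inv_eq_of_mul_eq_one_right ?_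
  rw [ei_mul C h (eiOk_neg h), add_neg_cancel, ← neg_one_smul F u, C.smul_left, h.hs,
    show -Cfsg.hermForm n F q u u - -1 * Cfsg.hermForm n F q u u = 0 by ring,
    ei_zero C h.he (by simp), C.tm_zero h.he]

namespace UCycle

variable (Y : UCycle C n r)

/-- A diagonal element on the window of the orbit is diagonal on the orbit. -/
theorem eigen_all (hr : 0 < r) {g : ↥(Cfsg.SU n F q)}
    (h : ∀ e : ℕ, e < 2 * r → ∃ a : F, mat g *ᵥ Y.P (e : ℤ) = a • Y.P (e : ℤ)) (k : ℤ) :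
    ∃ a : F, mat g *ᵥ Y.P k = a • Y.P k := by
  have hs : ∀ (m : ℤ) (e : ℕ), e < 2 * r →
      ∃ a : F, mat g *ᵥ Y.P ((e : ℤ) + m * (2 * (r : ℤ))) = a • Y.P ((e : ℤ) + m * (2 * (r : ℤ))) := by
    intro m
    induction m using Int.induction_on with
    | zero => intro e he; simpa using h e he
    | succ i ih =>
      intro e he
      obtain ⟨a, ha⟩ := ih e he
      refine ⟨a, ?_⟩
      rw [show (e : ℤ) + ((i : ℤ) + 1) * (2 * (r : ℤ)) = e + (i : ℤ) * (2 * (r : ℤ)) + 2 * (r : ℤ) by ring,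
        Y.per, mulVec_neg, ha, smul_neg]
    | pred i ih =>
      intro e he
      obtain ⟨a, ha⟩ := ih e he
      refine ⟨a, ?_⟩
      have := Y.per ((e : ℤ) + (-(i : ℤ) - 1) * (2 * (r : ℤ)))
      rw [show (e : ℤ) + (-(i : ℤ) - 1) * (2 * (r : ℤ)) + 2 * (r : ℤ)
        = e + (-(i : ℤ)) * (2 * (r : ℤ)) by ring] at this
      rw [this, mulVec_neg, smul_neg, neg_inj] at ha
      exact ha
  have h0 := Int.emod_nonneg k (show (2 * (r : ℤ)) ≠ 0 by omega)
  have h1 := Int.emod_lt_of_pos k (show (0 : ℤ) < 2 * (r : ℤ) by omega)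
  have := hs (k / (2 * (r : ℤ))) (k % (2 * (r : ℤ))).toNat (by omega)
  rwa [Int.toNat_of_nonneg h0, add_comm, Int.ediv_mul_add_emod] at this

theorem conj_act {h : ↥(Cfsg.SU n F q)} {k : ℤ} {a : F} (ha : mat h *ᵥ Y.P (k - 1) = a • Y.P (k - 1)) :
    mat (Y.w * h * Y.w⁻¹) *ᵥ Y.P k = a • Y.P k := by
  rw [mulVec_mul, mulVec_mul, Y.inv_act, ha, mulVec_smul, Y.act, sub_add_cancel]

theorem conj_z {h : ↥(Cfsg.SU n F q)} {a : F} (ha : mat h *ᵥ Y.z = a • Y.z) :
    mat (Y.w * h * Y.w⁻¹) *ᵥ Y.z = a • Y.z := by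
  rw [mulVec_mul, mulVec_mul, inv_fix Y.zfix, ha, mulVec_smul, Y.zfix]

theorem diag_comm (hr : 0 < r) {g g' : ↥(Cfsg.SU n F q)}
    (h : ∀ k, ∃ a : F, mat g *ᵥ Y.P k = a • Y.P k) (h' : ∀ k, ∃ a : F, mat g' *ᵥ Y.P k = a • Y.P k)
    {a a' : F} (hz : mat g *ᵥ Y.z = a • Y.z) (hz' : mat g' *ᵥ Y.z = a' • Y.z) : g * g' = g' * g := by
  refine Y.ext hr (fun k => ?_) ?_
  · obtain ⟨b, hb⟩ := h k
    obtain ⟨b', hb'⟩ := h' k
    simp only [mulVec_mul, hb, hb', mulVec_smul, smul_smul, mul_comm]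
  · simp only [mulVec_mul, hz, hz', mulVec_smul, smul_smul, mul_comm]

theorem diag_window {h : ↥(Cfsg.SU n F q)} {lam : Fin r → Fˣ}
    (h1 : ∀ i : Fin r, mat h *ᵥ Y.P (i.val : ℤ) = (lam i : F) • Y.P (i.val : ℤ))
    (h2 : ∀ i : Fin r, mat h *ᵥ Y.P ((r : ℤ) + (i.val : ℤ)) =
      (C.σ (lam i : F))⁻¹ • Y.P ((r : ℤ) + (i.val : ℤ))) (e : ℕ) (he : e < 2 * r) :
    ∃ a : F, mat h *ᵥ Y.P (e : ℤ) = a • Y.P (e : ℤ) := by
  by_cases her : e < r
  · exact ⟨_, h1 ⟨e, her⟩⟩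
  · refine ⟨(C.σ (lam ⟨e - r, by omega⟩ : F))⁻¹, ?_⟩
    have := h2 ⟨e - r, by omega⟩
    rwa [show (r : ℤ) + ((e - r : ℕ) : ℤ) = (e : ℤ) by omega] at this

end UCycle

theorem pow_gen_ne_one [Fintype F] (hF : Fintype.card F = q ^ 2) {ω : Fˣ}
    (hω : ∀ x : Fˣ, x ∈ Subgroup.zpowers ω) {k : ℕ} (hk : 0 < k) (hk' : ¬(q ^ 2 - 1) ∣ k) :
    (ω : F) ^ k ≠ 1 := by
  intro h
  apply hk'
  have ho : orderOf ω = q ^ 2 - 1 := by
    classical
    rw [orderOf_eq_card_of_forall_mem_zpowers hω, Nat.card_eq_fintype_card, Fintype.card_units, hF]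
  rw [← ho]
  exact orderOf_dvd_of_pow_eq_one (Units.ext (by simpa using h))

/-- `n = 2r`. -/
theorem su_two_gen_even [Fintype F] (hF : Fintype.card F = q ^ 2) (C : Conj F q)
    (hne : C.σ ≠ RingHom.id F) {r : ℕ} (hr : 2 ≤ r) (hn : n = 2 * r) :
    ∃ a b : ↥(Cfsg.SU n F q), Subgroup.closure {a, b} = ⊤ := by
  classical
  have hq : 2 ≤ q := by
    by_contra h
    have := Fintype.one_lt_card (α := F)
    interval_cases q <;> simp_all
  obtain ⟨Y, hz0, -, hdiag⟩ := exists_uCycle hF C hne (r := r) (δ := 0) (by omega) (by omega) hn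
  have hz : Y.z = 0 := hz0 rfl
  obtain ⟨ω, hω⟩ := IsCyclic.exists_generator (α := Fˣ)
  set i0 : Fin r := ⟨0, by omega⟩ with hi0
  set i1 : Fin r := ⟨1, by omega⟩ with hi1
  have h01 : i0 ≠ i1 := fun e => by simp [hi0, hi1, Fin.ext_iff] at e
  set lam : Fin r → Fˣ := Pi.mulSingle i0 ω * Pi.mulSingle i1 ω⁻¹ with hlam
  have hl0 : lam i0 = ω := by simp [hlam, h01]
  have hl1 : lam i1 = ω⁻¹ := by simp [hlam, h01.symm]
  have hprod : ∏ i, lam i = 1 := by
    simp [hlam, Finset.prod_mul_distrib, Finset.prod_pi_mulSingle']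
  obtain ⟨h, hhz, hh1, hh2⟩ := hdiag lam 1 (by simp) (by
    rw [Finset.prod_mul_distrib, Finset.prod_inv_distrib, ← map_prod, ← Units.coe_prod, hprod]
    simp)
  set σω := C.σ (ω : F) with hσω
  have hσω0 : σω ≠ 0 := (map_ne_zero C.σ).2 ω.ne_zero
  set last : Fin r := ⟨r - 1, by omega⟩ with hlast
  have e0 : mat h *ᵥ Y.P 0 = (ω : F) • Y.P 0 := by
    have e := hh1 i0
    rw [hl0] at e
    simpa [hi0] using e
  have e1 : mat h *ᵥ Y.P ((r : ℤ) + 1) = σω • Y.P ((r : ℤ) + 1) := by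
    have e := hh2 i1
    rw [hl1] at e
    simpa [hi1, hσω, map_inv₀] using e
  have e2 : mat h *ᵥ Y.P (r : ℤ) = σω⁻¹ • Y.P (r : ℤ) := by
    have e := hh2 i0
    rw [hl0] at e
    simpa [hi0, hσω] using e
  have e3 : mat h *ᵥ Y.P (-1) = (C.σ (lam last : F))⁻¹ • Y.P (-1) := by
    have e := hh2 last
    rw [show (r : ℤ) + ((last.val : ℕ) : ℤ) = -1 + 2 * (r : ℤ) by rw [hlast]; simp only; omega, Y.per,
      mulVec_neg, smul_neg, neg_inj] at e
    exact e
  set g := Y.w * h * Y.w⁻¹ with hg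
  have g0 : mat g *ᵥ Y.P 0 = (C.σ (lam last : F))⁻¹ • Y.P 0 := Y.conj_act (by simpa using e3)
  have g1 : mat g *ᵥ Y.P ((r : ℤ) + 1) = σω⁻¹ • Y.P ((r : ℤ) + 1) := Y.conj_act (by simpa using e2)
  have hall := fun k => Y.eigen_all (by omega) (Y.diag_window hh1 hh2) k
  have hgall : ∀ k, ∃ a : F, mat g *ᵥ Y.P k = a • Y.P k := fun k => by
    obtain ⟨a, ha⟩ := hall (k - 1)
    exact ⟨a, Y.conj_act ha⟩
  have o : Conj.Orth2 (q := q) (Y.P 0) (Y.P ((r : ℤ) + 1)) :=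
    Y.orth2 (by omega) (by omega) (by omega) (by omega)
  have hconj : ∀ (D : ↥(Cfsg.SU n F q)) (a b c : F), mat D *ᵥ Y.P 0 = a • Y.P 0 →
      mat D *ᵥ Y.P ((r : ℤ) + 1) = b • Y.P ((r : ℤ) + 1) →
      D * C.rt (Y.P 0) (Y.P ((r : ℤ) + 1)) c * D⁻¹ = C.rt (Y.P 0) (Y.P ((r : ℤ) + 1)) (c * C.σ a * b) :=
    fun D a b c ha hb => by
      rw [C.conj_rt _ o, ha, hb, C.rt_smul_left (C.orth2_smul_right b o), C.rt_smul_right o]
  set m := σω * σω with hm
  set mg := C.σ (C.σ (lam last : F))⁻¹ * σω⁻¹ with hmg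
  have hm0 : m ≠ 0 := mul_ne_zero hσω0 hσω0
  have hmj : ∀ j : ℕ, 1 ≤ j → j ≤ q - 1 → m ^ j ≠ 1 := by
    intro j hj1 hj2 e
    rw [hm, hσω, ← map_mul, ← map_pow, ← pow_two, ← pow_mul, ← map_one C.σ] at e
    refine pow_gen_ne_one hF hω (k := 2 * j) (by omega) ?_ (C.σ.injective e)
    intro hd
    have h1 := Nat.le_of_dvd (by omega) hd
    have h2 : q ^ 2 ≥ 2 * q := by nlinarith
    omega
  have hm1 : m - 1 ≠ 0 := sub_ne_zero.2 (by simpa using hmj 1 le_rfl (by omega))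
  have hmg1 : 1 - mg ≠ 0 := by
    rw [sub_ne_zero, hmg, map_inv₀, C.hσ2, ← mul_inv, ne_comm, ne_eq, inv_eq_one]
    rcases (show r = 2 ∨ 3 ≤ r by omega) with h2 | h3
    · have : last = i1 := Fin.ext (by simp [hlast, hi1]; omega)
      rw [this, hl1, Units.val_inv_eq_inv_val, inv_mul_eq_one₀ ω.ne_zero, hσω, C.hσ]
      intro e
      refine pow_gen_ne_one hF hω (k := q - 1) (by omega) ?_ ?_
      · intro hd
        have h1 := Nat.le_of_dvd (by omega) hd
        have : q < q ^ 2 := by nlinarith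
        omega
      · refine mul_right_cancel₀ ω.ne_zero ?_
        rw [one_mul, ← pow_succ, show q - 1 + 1 = q by omega]
        exact e.symm
    · have : lam last = 1 := by
        simp [hlam, hlast, hi0, hi1, Fin.ext_iff, show r - 1 ≠ 0 by omega, show r - 1 ≠ 1 by omega]
      rw [this, Units.val_one, one_mul, hσω, ← map_one C.σ]
      intro e
      refine pow_gen_ne_one hF hω (k := 1) one_pos ?_ (by simpa using C.σ.injective e)
      intro hd
      have := Nat.le_of_dvd one_pos hd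
      nlinarith [Nat.sub_add_cancel (show 1 ≤ q ^ 2 from Nat.one_le_pow _ _ (by omega))]
  set x := C.rt (Y.P 0) (Y.P ((r : ℤ) + 1)) 1 with hx
  set K := Subgroup.closure ({h, x * Y.w} : Set ↥(Cfsg.SU n F q)) with hK
  refine ⟨h, x * Y.w, ?_⟩
  have hhK : h ∈ K := Subgroup.subset_closure (by simp)
  have hbK : x * Y.w ∈ K := Subgroup.subset_closure (by simp)
  have hst := steinberg_key hhK hbK (Y.diag_comm (by omega) hall hgall hhz (Y.conj_z hhz))
  rw [hx, hconj h _ _ _ e0 e1, C.rt_inv o, C.rt_add o, hconj g _ _ _ g0 g1, C.rt_add o, C.rt_inv o,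
    C.rt_add o, show 1 * C.σ (ω : F) * σω + (-(1 * C.σ (ω : F) * σω) + 1) *
      C.σ (C.σ (lam last : F))⁻¹ * σω⁻¹ + -1 = (m - 1) * (1 - mg) by rw [hm, hmg, hσω]; ring] at hst
  let A : AddSubgroup F :=
    { carrier := {c | C.rt (Y.P 0) (Y.P ((r : ℤ) + 1)) c ∈ K}
      zero_mem' := show C.rt (Y.P 0) (Y.P ((r : ℤ) + 1)) 0 ∈ K by rw [C.rt_zero o]; exact K.one_mem
      add_mem' := fun {c d} (hc : C.rt _ _ c ∈ K) (hd : C.rt _ _ d ∈ K) =>
        show C.rt _ _ (c + d) ∈ K by rw [← C.rt_add o]; exact mul_mem hc hd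
      neg_mem' := fun {c} (hc : C.rt _ _ c ∈ K) =>
        show C.rt _ _ (-c) ∈ K by rw [← C.rt_inv o]; exact inv_mem hc }
  have hfull : ∀ c, C.rt (Y.P 0) (Y.P ((r : ℤ) + 1)) c ∈ K := fun c =>
    addSubgroup_full hF (A := A) hst (mul_ne_zero hm1 hmg1)
      (fun a (ha : C.rt _ _ a ∈ K) => show C.rt _ _ (m * a) ∈ K by
        have := mul_mem (mul_mem hhK ha) (inv_mem hhK)
        rwa [hconj h _ _ _ e0 e1, show a * C.σ (ω : F) * σω = m * a by rw [hm, hσω]; ring] at this)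
      hm0 hmj c
  have hwK : Y.w ∈ K := (K.mul_mem_cancel_left (hfull 1)).1 hbK
  refine Y.eq_top hF hne (by omega) (by omega) (by omega) hwK (Y.rt_all hwK hr hfull) (fun c => ?_)
  rw [hz, smul_zero]
  exact ⟨0, eiOk_zero C Y.iso (by simp), by
    rw [ei_zero C Y.iso (by simp), C.tm_zero Y.iso]; exact K.one_mem⟩

/-- `n = 2r + 1`. -/
theorem su_two_gen_odd [Fintype F] (hF : Fintype.card F = q ^ 2) (C : Conj F q)
    (hne : C.σ ≠ RingHom.id F) {r : ℕ} (hr : 1 ≤ r) (h32 : r = 1 → q ≠ 2) (hn : n = 2 * r + 1) :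
    ∃ a b : ↥(Cfsg.SU n F q), Subgroup.closure {a, b} = ⊤ := by
  classical
  have hq : 2 ≤ q := by
    by_contra h
    have := Fintype.one_lt_card (α := F)
    interval_cases q <;> simp_all
  obtain ⟨Y, -, hz1, hdiag⟩ := exists_uCycle hF C hne (r := r) (δ := 1) (by omega) le_rfl hn
  have hzz := hz1 rfl
  obtain ⟨ω, hω⟩ := IsCyclic.exists_generator (α := Fˣ)
  set i0 : Fin r := ⟨0, by omega⟩ with hi0
  set last : Fin r := ⟨r - 1, by omega⟩ with hlast
  have hpow : ∀ k : ℕ, 0 < k → k < q ^ 2 - 1 → (ω : F) ^ k ≠ 1 := fun k h1 h2 =>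
    pow_gen_ne_one hF hω h1 fun hd => by have := Nat.le_of_dvd h1 hd; omega
  have hqq : 2 * q ≤ q ^ 2 := by nlinarith
  -- the torus
  obtain ⟨lam, μ, hμ, hdet, hl0, hm, hmg⟩ : ∃ (lam : Fin r → Fˣ) (μ : F), μ * C.σ μ = 1 ∧
      (∏ i, ((lam i : F) * (C.σ (lam i : F))⁻¹)) * μ ^ 1 = 1 ∧ lam i0 = ω ∧
      (∀ j : ℕ, 1 ≤ j → j ≤ q - 1 → (C.σ (ω : F) * μ) ^ j ≠ 1) ∧
      ((lam last)⁻¹ : Fˣ) * μ ≠ 1 := by
    have hbase : ∀ lam : Fin r → Fˣ, ∀ Λ : Fˣ, ∏ i, lam i = Λ →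
        C.σ (Λ : F) / Λ * C.σ (C.σ (Λ : F) / Λ) = 1 ∧
          (∏ i, ((lam i : F) * (C.σ (lam i : F))⁻¹)) * (C.σ (Λ : F) / Λ) ^ 1 = 1 := by
      intro lam Λ hΛ
      have h1 : C.σ (Λ : F) ≠ 0 := (map_ne_zero C.σ).2 Λ.ne_zero
      refine ⟨by rw [map_div₀, C.hσ2]; field_simp, ?_⟩
      rw [Finset.prod_mul_distrib, Finset.prod_inv_distrib, ← map_prod, ← Units.coe_prod, hΛ, pow_one]
      field_simp
    by_cases hq2 : q = 2
    · subst hq2
      have hr2 : 2 ≤ r := by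
        by_contra h
        exact h32 (by omega) rfl
      set i1 : Fin r := ⟨1, by omega⟩ with hi1
      have h01 : i0 ≠ i1 := fun e => by simp [hi0, hi1, Fin.ext_iff] at e
      set lam : Fin r → Fˣ := Pi.mulSingle i0 ω * Pi.mulSingle i1 ω with hlam
      obtain ⟨hμ, hdet⟩ := hbase lam (ω * ω) (by
        simp [hlam, Finset.prod_mul_distrib, Finset.prod_pi_mulSingle'])
      have h3 : (ω : F) ^ 3 = 1 := by
        have := FiniteField.pow_card_sub_one_eq_one (ω : F) ω.ne_zero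
        rwa [hF] at this
      have hω0 := ω.ne_zero
      have hμv : C.σ ((ω * ω : Fˣ) : F) / ((ω * ω : Fˣ) : F) = (ω : F) ^ 2 := by
        rw [C.hσ, Units.val_mul]
        field_simp
      refine ⟨lam, _, hμ, hdet, by simp [hlam, h01], fun j hj1 hj2 => ?_, ?_⟩
      · rw [hμv, show j = 1 by omega, pow_one, C.hσ]
        have := hpow 1 one_pos (by norm_num)
        rw [pow_one] at this
        intro e
        exact this (by linear_combination e - (ω : F) * h3)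
      · rw [hμv]
        rcases (show r = 2 ∨ 3 ≤ r by omega) with h2 | h4
        · have : last = i1 := Fin.ext (by simp [hlast, hi1]; omega)
          rw [this, show lam i1 = ω by simp [hlam, h01.symm], Units.val_inv_eq_inv_val, pow_two,
            inv_mul_cancel_left₀ hω0]
          simpa using hpow 1 one_pos (by norm_num)
        · have : lam last = 1 := by
            simp [hlam, hlast, hi0, hi1, Fin.ext_iff, show r - 1 ≠ 0 by omega, show r - 1 ≠ 1 by omega]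
          rw [this, inv_one, Units.val_one, one_mul]
          exact hpow 2 two_pos (by norm_num)
    · set lam : Fin r → Fˣ := Pi.mulSingle i0 ω with hlam
      obtain ⟨hμ, hdet⟩ := hbase lam ω (by simp [hlam, Finset.prod_pi_mulSingle'])
      have hω0 := ω.ne_zero
      refine ⟨lam, _, hμ, hdet, by simp [hlam], fun j hj1 hj2 e => ?_, ?_⟩
      · rw [C.hσ, mul_div_assoc', div_pow, div_eq_one_iff_eq (pow_ne_zero _ hω0), ← pow_add, ← pow_mul] at e
        have e' : (ω : F) ^ ((q + q - 1) * j) = 1 := by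
          refine mul_right_cancel₀ (pow_ne_zero j hω0) ?_
          rw [one_mul, ← pow_add, ← e]
          congr 1
          have : (q + q - 1) * j + j = (q + q - 1 + 1) * j := by ring
          rw [this, show q + q - 1 + 1 = q + q by omega]
        refine pow_gen_ne_one hF hω (Nat.mul_pos (by omega) (by omega)) ?_ e'
        rintro ⟨t, ht⟩
        obtain ⟨p, rfl⟩ : ∃ p, q = p + 3 := ⟨q - 3, by omega⟩
        rw [show p + 3 + (p + 3) - 1 = 2 * p + 5 by omega,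
          show (p + 3) ^ 2 - 1 = p * p + 6 * p + 8 by
            rw [Nat.sub_eq_iff_eq_add (Nat.one_le_pow _ _ (by omega))]; ring] at ht
        rw [show p + 3 - 1 = p + 2 by omega] at hj2
        rcases t with _ | _ | t
        · nlinarith
        · rw [Nat.zero_add, mul_one] at ht
          rcases lt_or_ge (2 * j) (p + 3) with hlt | hge
          · nlinarith
          · rcases lt_or_ge (2 * j) (p + 4) with hlt | hge2
            · nlinarith [show 2 * j = p + 3 by omega]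
            · nlinarith
        · nlinarith [Nat.mul_le_mul_left (2 * p + 5) hj2, Nat.zero_le (p * t), Nat.zero_le (p * p * t)]
      · rw [C.hσ]
        rcases (show r = 1 ∨ 2 ≤ r by omega) with h1 | h2
        · have : last = i0 := Fin.ext (by simp [hlast, hi0]; omega)
          rw [this, show lam i0 = ω by simp [hlam], Units.val_inv_eq_inv_val]
          intro e
          refine hpow (q - 2) (by omega) (by omega) ?_
          refine mul_right_cancel₀ (pow_ne_zero 2 hω0) ?_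
          rw [one_mul, ← pow_add, show q - 2 + 2 = q by omega]
          field_simp at e
          linear_combination e
        · have : lam last = 1 := by
            simp [hlam, hlast, hi0, Fin.ext_iff, show r - 1 ≠ 0 by omega]
          rw [this, inv_one, Units.val_one, one_mul, ne_eq, div_eq_one_iff_eq hω0]
          intro e
          refine hpow (q - 1) (by omega) (by omega) (mul_right_cancel₀ hω0 ?_)
          rw [one_mul, ← pow_succ, show q - 1 + 1 = q by omega, e]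
  obtain ⟨h, hhz, hh1, hh2⟩ := hdiag lam μ hμ hdet
  have e0 : mat h *ᵥ Y.P 0 = (ω : F) • Y.P 0 := by
    have e := hh1 i0
    rw [hl0] at e
    simpa [hi0] using e
  have e3 : mat h *ᵥ Y.P (-1) = (C.σ (lam last : F))⁻¹ • Y.P (-1) := by
    have e := hh2 last
    rw [show (r : ℤ) + ((last.val : ℕ) : ℤ) = -1 + 2 * (r : ℤ) by rw [hlast]; simp only; omega, Y.per,
      mulVec_neg, smul_neg, neg_inj] at e
    exact e
  set g := Y.w * h * Y.w⁻¹ with hg
  have g0 : mat g *ᵥ Y.P 0 = (C.σ (lam last : F))⁻¹ • Y.P 0 := Y.conj_act (by simpa using e3)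
  have gz : mat g *ᵥ Y.z = μ • Y.z := Y.conj_z hhz
  have hall := fun k => Y.eigen_all (by omega) (Y.diag_window hh1 hh2) k
  have hgall : ∀ k, ∃ a : F, mat g *ᵥ Y.P k = a • Y.P k := fun k => by
    obtain ⟨a, ha⟩ := hall (k - 1)
    exact ⟨a, Y.conj_act ha⟩
  let R : F → ↥(Cfsg.SU n F q) → Prop := fun c y =>
    ∃ s, EiOk C (Y.P 0) (c • Y.z) s ∧ y = ei C (Y.P 0) (c • Y.z) s
  have Rmul : ∀ {c d y y'}, R c y → R d y' → R (c + d) (y * y') := by
    rintro c d _ _ ⟨s, hs, rfl⟩ ⟨t, ht, rfl⟩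
    refine ⟨s + t - Cfsg.hermForm n F q (d • Y.z) (c • Y.z), ?_, ?_⟩
    · rw [add_smul]; exact eiOk_add C hs ht
    · rw [add_smul]; exact ei_mul C hs ht
  have Rinv : ∀ {c y}, R c y → R (-c) y⁻¹ := by
    rintro c _ ⟨s, hs, rfl⟩
    exact ⟨C.σ s, by rw [neg_smul]; exact eiOk_neg hs, by rw [neg_smul]; exact ei_inv hs⟩
  have Rconj : ∀ {D : ↥(Cfsg.SU n F q)} {a b c : F} {y}, mat D *ᵥ Y.P 0 = a • Y.P 0 →
      mat D *ᵥ Y.z = b • Y.z → R c y → R (C.σ a * (c * b)) (D * y * D⁻¹) := by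
    rintro D a b c _ ha hb ⟨s, hs, rfl⟩
    have ha0 : a ≠ 0 := fun e => Y.top (by
      rw [← form_mulVec D, ha, e, zero_smul, C.zero_left])
    have hs' := eiOk_conj C D hs
    rw [ha, mulVec_smul, hb, smul_smul] at hs'
    refine ⟨s * (a * C.σ a), ?_, ?_⟩
    · have := eiOk_smul C a hs' ha0
      rwa [smul_smul] at this
    · rw [conj_ei C _ hs, ha, mulVec_smul, hb, smul_smul, ei_smul C a hs' ha0, smul_smul]
  obtain ⟨s0, hs0⟩ := exists_height C hne Y.z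
  have hok : EiOk C (Y.P 0) ((1 : F) • Y.z) s0 := by
    rw [one_smul]; exact ⟨Y.iso, Y.zperp 0, hs0⟩
  set x := ei C (Y.P 0) ((1 : F) • Y.z) s0 with hx
  set K := Subgroup.closure ({h, x * Y.w} : Set ↥(Cfsg.SU n F q)) with hK
  refine ⟨h, x * Y.w, ?_⟩
  have hhK : h ∈ K := Subgroup.subset_closure (by simp)
  have hbK : x * Y.w ∈ K := Subgroup.subset_closure (by simp)
  have hst := steinberg_key hhK hbK (Y.diag_comm (by omega) hall hgall hhz gz)
  have R1 : R 1 x := ⟨s0, hok, rfl⟩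
  set m := C.σ (ω : F) * μ with hmdef
  set mg := ((lam last)⁻¹ : Fˣ) * μ with hmgdef
  have Rh := Rconj e0 hhz R1
  obtain ⟨s, hs, he⟩ := Rmul (Rmul Rh (Rconj g0 gz (Rmul (Rinv Rh) R1))) (Rinv R1)
  rw [he] at hst
  let A : AddSubgroup F :=
    { carrier := {c | ∃ y, R c y ∧ y ∈ K}
      zero_mem' := ⟨1, ⟨0, by rw [zero_smul]; exact eiOk_zero C Y.iso (by simp), by
        rw [zero_smul, ei_zero C Y.iso (by simp), C.tm_zero Y.iso]⟩, K.one_mem⟩
      add_mem' := fun ⟨y, hy, hyK⟩ ⟨y', hy', hyK'⟩ => ⟨_, Rmul hy hy', mul_mem hyK hyK'⟩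
      neg_mem' := fun ⟨y, hy, hyK⟩ => ⟨_, Rinv hy, inv_mem hyK⟩ }
  have hm0 : m ≠ 0 := fun e => by
    have h1 := congrArg (fun t => t * C.σ μ) e
    simp only [hmdef, zero_mul, mul_assoc, hμ, mul_one] at h1
    exact ω.ne_zero ((map_eq_zero C.σ).1 h1)
  have hfull : ∀ c, ∃ y, R c y ∧ y ∈ K := by
    intro c
    refine addSubgroup_full hF (A := A) (c₀ := (m - 1) * (1 - mg)) ⟨_, ⟨s, ?_, rfl⟩, ?_⟩ ?_ ?_ hm0 hm c
    · convert hs using 2
      rw [hmdef, hmgdef, map_inv₀, C.hσ2, Units.val_inv_eq_inv_val]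
      ring
    · convert hst using 2
      rw [hmdef, hmgdef, map_inv₀, C.hσ2, Units.val_inv_eq_inv_val]
      ring
    · refine mul_ne_zero (sub_ne_zero.2 ?_) (sub_ne_zero.2 (Ne.symm hmg))
      simpa [hmdef] using hm 1 le_rfl (by omega)
    · rintro a ⟨y, hy, hyK⟩
      refine ⟨_, ?_, mul_mem (mul_mem hhK hyK) (inv_mem hhK)⟩
      have := Rconj e0 hhz hy
      rwa [show C.σ (ω : F) * (a * μ) = m * a by rw [hmdef]; ring] at this
  obtain ⟨ι, hι⟩ := exists_trace_one C hne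
  have htm : ∀ d, C.σ d = -d → C.tm (Y.P 0) d ∈ K := by
    intro d hd
    obtain ⟨_, ⟨s, hs, rfl⟩, hsK⟩ := hfull (ι * d)
    obtain ⟨_, ⟨t, ht, rfl⟩, htK⟩ := hfull 1
    have h1 := mul_mem (inv_mem (mul_mem htK hsK)) (mul_mem hsK htK)
    have e : ei C (Y.P 0) ((1 : F) • Y.z) t * ei C (Y.P 0) ((ι * d) • Y.z) s * C.tm (Y.P 0) d =
        ei C (Y.P 0) ((ι * d) • Y.z) s * ei C (Y.P 0) ((1 : F) • Y.z) t := by
      rw [← ei_zero C Y.iso hd, ei_mul C ht hs, ei_mul C hs ht,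
        ei_mul C (eiOk_add C ht hs) (eiOk_zero C Y.iso hd), add_zero, C.zero_left, sub_zero,
        add_comm ((1 : F) • Y.z)]
      congr 1
      simp only [C.smul_left, C.smul_right, hzz, map_mul, map_one, hd]
      linear_combination (-d) * hι
    rw [← e, inv_mul_cancel_left] at h1
    exact h1
  have hxK : x ∈ K := by
    obtain ⟨_, ⟨s, hs, rfl⟩, hsK⟩ := hfull 1
    have hd : C.σ (s0 - s) = -(s0 - s) := by rw [map_sub]; linear_combination hok.hs - hs.hs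
    have := mul_mem hsK (htm _ hd)
    rwa [← ei_zero C Y.iso hd, ei_mul C hs (eiOk_zero C Y.iso hd), add_zero, C.zero_left, sub_zero,
      add_sub_cancel] at this
  have hwK : Y.w ∈ K := (K.mul_mem_cancel_left hxK).1 hbK
  have hZ : ∀ c : F, ∃ s, EiOk C (Y.P 0) (c • Y.z) s ∧ ei C (Y.P 0) (c • Y.z) s ∈ K := by
    intro c
    obtain ⟨_, ⟨s, hs, rfl⟩, hsK⟩ := hfull c
    exact ⟨s, hs, hsK⟩
  exact Y.eq_top hF hne (by omega) (by rintro ⟨h3, h2⟩; exact h32 (by omega) h2) (by omega) hwK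
    (Y.rt_all_of_z hwK hzz hZ) hZ

theorem psu_two_gen [Fintype F] (hF : Fintype.card F = q ^ 2) (hn : 3 ≤ n) (h32 : n = 3 → q ≠ 2) :
    ∃ a b : Cfsg.PSU n F q, Subgroup.closure ({a, b} : Set (Cfsg.PSU n F q)) = ⊤ := by
  obtain ⟨C, hne⟩ := exists_conjugation hF
  obtain ⟨a, b, hab⟩ : ∃ a b : ↥(Cfsg.SU n F q), Subgroup.closure {a, b} = ⊤ := by
    rcases Nat.even_or_odd' n with ⟨r, hr | hr⟩
    · exact su_two_gen_even hF C hne (by omega) hr
    · exact su_two_gen_odd hF C hne (by omega) (fun h => h32 (by omega)) hr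
  refine ⟨QuotientGroup.mk' _ a, QuotientGroup.mk' _ b, ?_⟩
  have := congrArg (Subgroup.map (QuotientGroup.mk' (Subgroup.center ↥(Cfsg.SU n F q)))) hab
  rwa [MonoidHom.map_closure, Set.image_pair,
    Subgroup.map_top_of_surjective _ (QuotientGroup.mk'_surjective _)] at this

end CfsgLib.TwoGen46
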